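import Mathlib.Algebra.Group.Defs

/-!
# The relations of the subgroup `⟨a, b, c, f, g⟩ ≅ L₃(4)` in the presentation of Suz
-/

set_option autoImplicit false

namespace CfsgLib.InvChar.SuzUniq

/-- The relations satisfied by the generators `a, b, c, f, g` of Suz, with the orders of the edges
exact. -/
structure Rel5 {H : Type*} [Monoid H] (a b c f g : H) : Prop where
  aa : a * a = 1
  bb : b * b = 1
  cc : c * c = 1
  ff : f * f = 1
  gg : g * g = 1
  a_ne : a ≠ 1
  ab_ne : a * b ≠ 1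
  bc_ne : b * c ≠ 1
  bf_ne : b * f ≠ 1
  gb_ne : g * b ≠ 1
  ab : (a * b) ^ 5 = 1
  bc : (b * c) ^ 3 = 1
  bf : (b * f) ^ 3 = 1
  gb : (g * b) ^ 3 = 1
  fg : (f * g) ^ 4 = 1
  fg_sq : (f * g) ^ 2 = a
  ac : a * c = c * a
  af : a * f = f * a
  ag : a * g = g * a
  cf : c * f = f * c
  cg : c * g = g * c
  abcf : (a * b * c * f) ^ 5 = 1
  bfg : (b * f * g) ^ 5 = 1

end CfsgLib.InvChar.SuzUniq
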