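import Cfsg.Agent.Lib.InvChar.CosetGroup
import Cfsg.Agent.Lib.InvChar.SuzUniq.Rel
import Cfsg.Agent.Lib.InvChar.SuzUniq.IndexData
import Mathlib.Tactic

/-!
# Six involutions satisfying the relations of `U₄(3).2`: index of the subgroup on five of them
-/

set_option autoImplicit false
set_option maxRecDepth 100000

namespace CfsgLib.InvChar.SuzUniq

open CfsgLib.InvChar.Coset

/-- The six generators by number. -/
def six {H : Type*} [One H] (a b c d f g : H) : ℕ → H
  | 0 => a | 1 => b | 2 => c | 3 => d | 4 => f | 5 => g | _ => 1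

theorem wprod_cons' {H : Type*} [Monoid H] (s : ℕ → H) (x : ℕ) (L : List ℕ) :
    wprod s (x :: L) = s x * wprod s L := by
  simp [wprod]

theorem wprod_nil' {H : Type*} [Monoid H] (s : ℕ → H) : wprod s [] = 1 := by simp [wprod]

/-- In any group, six involutions satisfying the relations with `(bcdcd)⁵ = 1` generate a group at most
324 times as big as the five. -/
theorem card_le {H : Type*} [Group H] [Finite H] (a b c d f g : H) (R : Rel5 a b c f g) (hd : d * d = 1)
    (da : d * a = a * d) (db : d * b = b * d) (df : d * f = f * d) (dg : d * g = g * d)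
    (hcd : (c * d) ^ 4 = a) (hx : (b * c * d * c * d) ^ 5 = 1) :
    Nat.card (Subgroup.closure ({a, b, c, d, f, g} : Set H)) ≤
      324 * Nat.card (Subgroup.closure ({a, b, c, f, g} : Set H)) := by
  have hs : ∀ x, six a b c d f g x * six a b c d f g x = 1 := by
    intro x
    rcases x with _ | _ | _ | _ | _ | _ | x
    exacts [R.aa, R.bb, R.cc, hd, R.ff, R.gg, one_mul 1]
  have hsub : ∀ x, x < 6 → subGen (six a b c d f g) [0, 1, 2, 3, 4, 5] x = six a b c d f g x := by
    intro x hx
    rcases x with _ | _ | _ | _ | _ | _ | x <;> first | rfl | omega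
  have key : ∀ L : List ℕ, (∀ x ∈ L, x < 6) →
      wprod (subGen (six a b c d f g) [0, 1, 2, 3, 4, 5]) L = wprod (six a b c d f g) L := by
    intro L hL
    simp only [wprod]
    exact congrArg List.prod (List.map_congr_left fun x hx => hsub x (hL x hx))
  have comm : ∀ {u v : H}, u * u = 1 → v * v = 1 → u * v = v * u → u * v * (u * v) = 1 := by
    intro u v hu hv h
    calc u * v * (u * v) = u * v * (v * u) := by rw [← h]
      _ = u * (v * v) * u := by group
      _ = 1 := by rw [hv, mul_one, hu]
  have sw : ∀ {u v : H}, u * u = 1 → v * v = 1 → ∀ {n : ℕ}, (u * v) ^ n = 1 → (v * u) ^ n = 1 := by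
    intro u v hu hv n h
    have : v * u = (u * v)⁻¹ := by
      rw [mul_inv_rev, inv_eq_of_mul_eq_one_right hu, inv_eq_of_mul_eq_one_right hv]
    rw [this, inv_pow, h, inv_one]
  have hR : ∀ r ∈ IndexData.rels, wprod (six a b c d f g) r = 1 := by
    have e1 := comm R.aa R.cc R.ac
    have e2 := comm R.aa hd da.symm
    have e3 := comm R.aa R.ff R.af
    have e4 := comm R.aa R.gg R.ag
    have e5 := comm R.bb hd db.symm
    have e6 := comm R.cc R.ff R.cf
    have e7 := comm R.cc R.gg R.cg
    have e8 := comm hd R.ff df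
    have e9 := comm hd R.gg dg
    have f1 := R.ab
    have f2 := R.bc
    have f3 := R.bf
    have f4 := sw R.gg R.bb R.gb
    have f5 := R.fg
    have f6 : (c * d) ^ 8 = 1 := by rw [show 8 = 4 + 4 from rfl, pow_add, hcd, R.aa]
    have f7 : a * (d * c) ^ 4 = 1 := by
      have : (d * c) ^ 4 = ((c * d) ^ 4)⁻¹ := by
        rw [← inv_pow, mul_inv_rev, inv_eq_of_mul_eq_one_right R.cc, inv_eq_of_mul_eq_one_right hd]
      rw [this, hcd, mul_inv_cancel]
    have f8 : a * (g * f) ^ 2 = 1 := by
      have : (g * f) ^ 2 = ((f * g) ^ 2)⁻¹ := by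
        rw [← inv_pow, mul_inv_rev, inv_eq_of_mul_eq_one_right R.ff, inv_eq_of_mul_eq_one_right R.gg]
      rw [this, R.fg_sq, mul_inv_cancel]
    have f9 := R.abcf
    have f10 := R.bfg
    simp only [pow_succ, pow_zero, one_mul, mul_assoc] at f1 f2 f3 f4 f5 f6 f7 f8 f9 f10 hx e1 e2 e3 e4 e5 e6 e7 e8 e9
    simp only [IndexData.rels, List.forall_mem_cons, List.not_mem_nil, false_implies, implies_true,
      and_true, List.nil_append, List.cons_append, wprod_cons', wprod_nil', six, mul_one]
    repeat' apply And.intro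
    all_goals
      first
        | assumption
        | rfl
        | exact R.aa
        | exact R.bb
        | exact R.cc
        | exact hd
        | exact R.ff
        | exact R.gg
        | trivial
  let K : Subgroup H := Subgroup.closure ({a, b, c, f, g} : Set H)
  have hrel_lt : ∀ r ∈ IndexData.rels, ∀ x ∈ r, x < 6 := by decide +kernel
  have himg : subGen (six a b c d f g) [0, 1, 2, 3, 4, 5] '' Set.Iio 6 = ({a, b, c, d, f, g} : Set H) := by
    ext y
    constructor
    · rintro ⟨x, hx, rfl⟩
      rw [hsub x hx]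
      have hx' : x < 6 := hx
      interval_cases x <;> simp [six]
    · intro hy
      rcases hy with rfl | rfl | rfl | rfl | rfl | hy
      · exact ⟨0, show (0 : ℕ) < 6 by norm_num, rfl⟩
      · exact ⟨1, show (1 : ℕ) < 6 by norm_num, rfl⟩
      · exact ⟨2, show (2 : ℕ) < 6 by norm_num, rfl⟩
      · exact ⟨3, show (3 : ℕ) < 6 by norm_num, rfl⟩
      · exact ⟨4, show (4 : ℕ) < 6 by norm_num, rfl⟩
      · rw [Set.mem_singleton_iff] at hy
        subst hy
        exact ⟨5, show (5 : ℕ) < 6 by norm_num, rfl⟩
  have h := IndexData.covered.card_closure_le (six a b c d f g) hs [0, 1, 2, 3, 4, 5] rfl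
    (fun r hr => by rw [key r (hrel_lt r hr)]; exact hR r hr) K
    (by
      show K ≤ Subgroup.closure (subGen (six a b c d f g) [0, 1, 2, 3, 4, 5] '' Set.Iio 6)
      rw [himg]
      exact Subgroup.closure_mono (by
        intro y hy
        simp only [Set.mem_insert_iff, Set.mem_singleton_iff] at hy ⊢
        tauto))
    (fun r hr => by
      have hr' : r ∈ IndexData.subs := hr
      rw [key r ((show ∀ r ∈ IndexData.subs, ∀ x ∈ r, x < 6 by decide +kernel) r hr')]
      simp only [IndexData.subs, List.mem_cons, List.not_mem_nil, or_false] at hr'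
      rcases hr' with rfl | rfl | rfl | rfl | rfl <;>
        (simp only [wprod_cons', wprod_nil', six, mul_one]; exact Subgroup.subset_closure (by simp)))
    inferInstance
  have h2 := h.2
  show _ ≤ 324 * Nat.card K
  calc Nat.card (Subgroup.closure ({a, b, c, d, f, g} : Set H))
      = Nat.card (Subgroup.closure (subGen (six a b c d f g) [0, 1, 2, 3, 4, 5] '' Set.Iio 6)) := by rw [himg]
    _ ≤ 324 * Nat.card K := h2

end CfsgLib.InvChar.SuzUniq
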