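import Cfsg.Agent.Lib.InvChar.SuzUniq.ModelAut

/-!
The permutations normalising the model group and the standard copy of `L₃(4)`: either some
translate by the standard copy centralises an element of order five or seven, or they lie in the
coset of the outer involution.
-/

set_option autoImplicit false
set_option maxRecDepth 100000
set_option maxHeartbeats 400000
set_option Elab.async false

namespace CfsgLib.InvChar.SuzUniq

open CfsgLib.KnownA.PermCert CfsgLib.KnownA.U4ThreeSchur CfsgLib.Recog.McLRank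

theorem halves_check : maskS.testBit 0 = true ∧ maskT.testBit 1 = true ∧
    reach 112 codesL 12 (2 ^ 0) = maskS ∧ reach 112 codesL 12 (2 ^ 1) = maskT ∧
    (mS 112 maskS).card = 56 ∧ (mS 112 maskT).card = 56 ∧
    (∀ i : Fin 112, maskT.testBit i = !maskS.testBit i) := by
  decide +kernel

theorem mem_T0 {x : Fin 112} : x ∈ T0 ↔ x ∉ S0 := by
  rw [T0, S0, mem_mS, mem_mS, halves_check.2.2.2.2.2.2 x]
  cases maskS.testBit (x : ℕ) <;> simp

theorem Lstd_trans {m s : ℕ} (hr : reach 112 codesL 12 (2 ^ s) = m) (hs : s < 112) {x : Fin 112}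
    (hx : x ∈ mS 112 m) : ∃ σ ∈ Lstd, σ ⟨s, hs⟩ = x := by
  rw [mem_mS, ← hr] at hx
  obtain ⟨σ, hσ, i, hi, e⟩ := mem_reach (genGroup 112 codesL)
    (fun c hc => ⟨(codeK_mem c (List.mem_append_left _ hc)).1, mem_genGroup hc⟩) hx
  rw [Nat.testBit_two_pow, decide_eq_true_iff] at hi
  refine ⟨σ, Lstd_eq ▸ hσ, ?_⟩
  rw [← e]
  exact congrArg σ (Fin.ext hi)

/-- A set invariant under the standard copy contains a half or is disjoint from it. -/
theorem invariant_half {A : Finset (Fin 112)} (hA : ∀ σ ∈ Lstd, A.image σ = A) {m s : ℕ}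
    (hr : reach 112 codesL 12 (2 ^ s) = m) (hs : s < 112) {y : Fin 112} (hyA : y ∈ A)
    (hym : y ∈ mS 112 m) : mS 112 m ⊆ A := by
  intro x hx
  obtain ⟨σ, hσ, rfl⟩ := Lstd_trans hr hs hx
  obtain ⟨ρ, hρ, e⟩ := Lstd_trans hr hs hym
  rw [← hA (σ * ρ⁻¹) (mul_mem hσ (inv_mem hρ))]
  refine Finset.mem_image.2 ⟨y, hyA, ?_⟩
  rw [Equiv.Perm.mul_apply, ← e, Equiv.Perm.inv_def, Equiv.symm_apply_apply]

/-- A permutation normalising the standard copy moves the first half to one of the two halves. -/
theorem image_S0 {p : Equiv.Perm (Fin 112)} (hL : ∀ s ∈ Lstd, p * s * p⁻¹ ∈ Lstd) :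
    S0.image p = S0 ∨ S0.image p = T0 := by
  obtain ⟨h0, -, r0, r1, cS, cT, -⟩ := halves_check
  have hmap : Lstd.map (MulAut.conj p).toMonoidHom = Lstd :=
    Subgroup.eq_of_le_of_card_ge (by rintro _ ⟨x, hx, rfl⟩; exact hL x hx)
      (le_of_eq (Subgroup.card_map_of_injective (MulAut.conj p).injective).symm)
  have hA : ∀ σ ∈ Lstd, (S0.image p).image σ = S0.image p := by
    intro σ hσ
    rw [← hmap] at hσ
    obtain ⟨x, hx, rfl⟩ := hσ
    conv_rhs => rw [← (Lstd_fix hx).1]
    rw [Finset.image_image, Finset.image_image]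
    congr 1
    funext a
    simp [Equiv.Perm.mul_apply, Equiv.Perm.inv_def]
  have hcard : (S0.image p).card = 56 := by
    rw [Finset.card_image_of_injective _ p.injective]; exact cS
  by_cases hex : ∃ y ∈ S0.image p, y ∈ S0
  · obtain ⟨y, hy, hy'⟩ := hex
    left
    exact (Finset.eq_of_subset_of_card_le (invariant_half hA r0 (by norm_num) hy hy')
      (le_of_eq (hcard.trans cS.symm))).symm
  · right
    refine Finset.eq_of_subset_of_card_le (fun y hy => mem_T0.2 fun h => hex ⟨y, hy, h⟩) ?_
    rw [hcard]; exact le_of_eq cT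

theorem swap_check : ((List.range 8).all fun i =>
      (Nat.blt i 4 || (!(orb 0).any (Nat.beq (imgM (tauC i) maskS 112)) &&
        !(orb 3).any (Nat.beq (imgM (tauC i) maskS 112)) &&
        Nat.blt (imgM (tauC i) maskS 112) (2 ^ 112))) &&
      (!(Nat.beq i 2 || Nat.beq i 3) || Nat.beq (imgM (tauC i) maskS 112) maskT)) = true ∧
    ((List.range 2).all fun j => inGP (codesWit.getD j 0) (wordsWit.getD j []) &&
      Nat.beq (imgM (codesWit.getD j 0) maskS 112) maskS &&
      eqW 112 (List.replicate (ordWit.getD j 0) (codesWit.getD j 0)) [] &&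
      !eqW 112 [codesWit.getD j 0] [] &&
      eqW 112 [tauC (j + 2), codesWit.getD j 0] [codesWit.getD j 0, tauC (j + 2)]) = true ∧
    ordWit = [5, 7] := by
  decide +kernel

/-- The witness centralised by a swapping representative. -/
theorem witness {j : ℕ} (hj : j < 2) : ∃ s ∈ Lstd, (orderOf s = 5 ∨ orderOf s = 7) ∧
    tau (j + 2) * s = s * tau (j + 2) := by
  obtain ⟨-, hw, ho⟩ := swap_check
  simp only [List.all_eq_true, List.mem_range, Bool.and_eq_true, Bool.not_eq_true'] at hw
  obtain ⟨⟨⟨⟨hG, hfix⟩, hpow⟩, hne⟩, hcomm⟩ := hw j hj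
  obtain ⟨hv, hmem⟩ := inGP_sound hG
  set c := codesWit.getD j 0
  refine ⟨permOf 112 c, mem_Lstd hmem ?_, ?_, ?_⟩
  · rw [S0, image_mS hv, Nat.eq_of_beq_eq_true hfix]
  · have hp := (eqW_iff (L := List.replicate (ordWit.getD j 0) c) (L' := [])
      (fun d hd => by rw [List.eq_of_mem_replicate hd]; exact hv) (by simp)).1 hpow
    have hn : permOf 112 c ≠ 1 := fun e => by
      have := (eqW_iff (n := 112) (L := [c]) (L' := []) (by simp [hv]) (by simp)).2 (by simpa [prodW] using e)
      rw [this] at hne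
      exact Bool.noConfusion hne
    have hp' : permOf 112 c ^ ordWit.getD j 0 = 1 := by
      simpa [prodW, List.map_replicate, List.prod_replicate] using hp
    rw [ho] at hp'
    interval_cases j
    · haveI : Fact (Nat.Prime 5) := ⟨by norm_num⟩
      exact Or.inl (orderOf_eq_prime hp' hn)
    · haveI : Fact (Nat.Prime 7) := ⟨by norm_num⟩
      exact Or.inr (orderOf_eq_prime hp' hn)
  · simpa [prodW, tau] using (eqW_iff (L := [tauC (j + 2), c]) (L' := [c, tauC (j + 2)])
      (by simp [hv, tau_valid (show j + 2 < 8 by omega)])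
      (by simp [hv, tau_valid (show j + 2 < 8 by omega)])).1 hcomm

/-- The permutations normalising the model group and the standard copy. -/
theorem outer_cases {p : Equiv.Perm (Fin 112)} (hG : ∀ s ∈ GP, p * s * p⁻¹ ∈ GP)
    (hL : ∀ s ∈ Lstd, p * s * p⁻¹ ∈ Lstd) :
    (∃ l ∈ Lstd, ∃ s ∈ Lstd, (orderOf s = 5 ∨ orderOf s = 7) ∧ (l * p) * s = s * (l * p)) ∨
    ∃ h ∈ GP, h * p = delta := by
  obtain ⟨i, hi, h, hh, rfl⟩ := normalises_cases hG
  have hsw := swap_check.1
  simp only [List.all_eq_true, List.mem_range, Bool.and_eq_true, Bool.or_eq_true,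
    Bool.not_eq_true', Nat.blt_eq, List.any_eq_false] at hsw
  obtain ⟨hbig, hswap⟩ := hsw i hi
  have himg : (S0.image (tau i)).image h = S0.image (h * tau i : Equiv.Perm (Fin 112)) := by
    rw [Finset.image_image, ← Equiv.Perm.coe_mul]
  have hiv := tau_valid hi
  rcases Nat.lt_or_ge i 4 with hi4 | hi4
  · have hT : ¬ InOrb T0 3 := by
      rintro ⟨m, hm, e⟩
      have hf := orb_check.2.2.2.2.2.2.1
      rw [List.any_eq_false] at hf
      exact hf m hm (by rw [mS_inj maskT_lt (orb_lt (by norm_num) hm) e]; exact Nat.beq_refl m)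
    have hS : ¬ InOrb S0 0 := by
      rintro ⟨m, hm, e⟩
      have hf := orb_check.2.2.2.2.2.1
      rw [List.any_eq_false] at hf
      exact hf m hm (by rw [mS_inj maskS_lt (orb_lt (by norm_num) hm) e]; exact Nat.beq_refl m)
    interval_cases i
    · left
      have hin := orb_GP (by norm_num) inOrb_S0 hh
      have hfix : S0.image (h * tau 0 : Equiv.Perm (Fin 112)) = S0 := by
        refine (image_S0 hL).resolve_right fun e => hT ?_
        rw [tau_zero, mul_one] at e
        exact e ▸ hin
      rw [tau_zero, mul_one] at hfix ⊢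
      obtain ⟨s, hs, ho, -⟩ := witness (j := 0) (by norm_num)
      exact ⟨h⁻¹, inv_mem (mem_Lstd hh hfix), s, hs, ho, by simp⟩
    · right
      exact ⟨h⁻¹, inv_mem hh, by rw [inv_mul_cancel_left, delta_eq]⟩
    · left
      have hST : S0.image (tau 2) = T0 := by
        rw [S0, tau, image_mS hiv, Nat.eq_of_beq_eq_true (hswap.resolve_left (by decide)), T0]
      rw [hST] at himg
      have hin := orb_GP (by norm_num) inOrb_T0 hh
      have hfix : T0.image h = T0 := by
        rw [himg] at hin ⊢
        exact (image_S0 hL).resolve_left fun e => hS (e ▸ hin)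
      have hfixS : S0.image h = S0 := by
        ext x
        have := Finset.ext_iff.1 hfix x
        rw [Finset.mem_image] at this ⊢
        constructor
        · rintro ⟨y, hy, rfl⟩
          by_contra hc
          obtain ⟨z, hz, e⟩ := this.2 (mem_T0.2 hc)
          exact mem_T0.1 hz (h.injective e ▸ hy)
        · intro hx
          obtain ⟨y, rfl⟩ := h.surjective x
          refine ⟨y, ?_, rfl⟩
          by_contra hy
          exact mem_T0.1 (this.1 ⟨y, mem_T0.2 hy, rfl⟩) hx
      obtain ⟨s, hs, ho, hc⟩ := witness (j := 0) (by norm_num)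
      exact ⟨h⁻¹, inv_mem (mem_Lstd hh hfixS), s, hs, ho, by rwa [inv_mul_cancel_left]⟩
    · left
      have hST : S0.image (tau 3) = T0 := by
        rw [S0, tau, image_mS hiv, Nat.eq_of_beq_eq_true (hswap.resolve_left (by decide)), T0]
      rw [hST] at himg
      have hin := orb_GP (by norm_num) inOrb_T0 hh
      have hfix : T0.image h = T0 := by
        rw [himg] at hin ⊢
        exact (image_S0 hL).resolve_left fun e => hS (e ▸ hin)
      have hfixS : S0.image h = S0 := by
        ext x
        have := Finset.ext_iff.1 hfix x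
        rw [Finset.mem_image] at this ⊢
        constructor
        · rintro ⟨y, hy, rfl⟩
          by_contra hc
          obtain ⟨z, hz, e⟩ := this.2 (mem_T0.2 hc)
          exact mem_T0.1 hz (h.injective e ▸ hy)
        · intro hx
          obtain ⟨y, rfl⟩ := h.surjective x
          refine ⟨y, ?_, rfl⟩
          by_contra hy
          exact mem_T0.1 (this.1 ⟨y, mem_T0.2 hy, rfl⟩) hx
      obtain ⟨s, hs, ho, hc⟩ := witness (j := 1) (by norm_num)
      exact ⟨h⁻¹, inv_mem (mem_Lstd hh hfixS), s, hs, ho, by rwa [inv_mul_cancel_left]⟩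
  · exfalso
    obtain ⟨⟨h0, h3⟩, hlt⟩ := hbig.resolve_left (by omega)
    have e0 : S0.image (tau i) = ((S0.image (h * tau i : Equiv.Perm (Fin 112))).image
        (h⁻¹ : Equiv.Perm (Fin 112))) := by
      rw [← himg, Finset.image_image, Finset.image_image]
      congr 1
      funext a
      simp [Equiv.Perm.inv_def]
    rw [S0, tau, image_mS hiv, ← S0, ← tau] at e0
    rcases image_S0 hL with e | e <;> rw [e] at e0
    · obtain ⟨m, hm, em⟩ := orb_GP (by norm_num) inOrb_S0 (inv_mem hh)
      exact h3 m hm (by rw [mS_inj hlt (orb_lt (by norm_num) hm) (e0.trans em)]; exact Nat.beq_refl m)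
    · obtain ⟨m, hm, em⟩ := orb_GP (by norm_num) inOrb_T0 (inv_mem hh)
      exact h0 m hm (by rw [mS_inj hlt (orb_lt (by norm_num) hm) (e0.trans em)]; exact Nat.beq_refl m)

end CfsgLib.InvChar.SuzUniq
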