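import Cfsg.Agent.Lib.InvChar.SuzUniq.ModelStab
import Cfsg.Agent.Lib.Recog.McLRank.Bound

/-!
Every permutation normalising the model of `U₄(3)` lies in one of eight cosets.
-/

set_option autoImplicit false
set_option maxRecDepth 100000
set_option maxHeartbeats 400000
set_option Elab.async false

namespace CfsgLib.InvChar.SuzUniq

open CfsgLib.KnownA.PermCert CfsgLib.KnownA.U4ThreeSchur CfsgLib.Recog.McLRank

/-- An ordering of the points bounding the automorphisms of the graph. -/
def ordX : List ℕ := [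
  0, 4, 1, 31, 34, 6, 7, 37, 16, 25, 32, 13, 15, 22, 24, 33,
  38, 41, 42, 45, 58, 2, 3, 14, 5, 17, 8, 23, 26, 35, 18, 9,
  11, 19, 10, 12, 20, 21, 27, 28, 29, 30, 36, 39, 40, 43, 44, 46,
  47, 48, 49, 50, 51, 52, 53, 54, 55, 56, 57, 59, 60, 61, 62, 63,
  64, 65, 66, 67, 68, 69, 70, 71, 72, 73, 74, 75, 76, 77, 78, 79,
  80, 81, 82, 83, 84, 85, 86, 87, 88, 89, 90, 91, 92, 93, 94, 95,
  96, 97, 98, 99, 100, 101, 102, 103, 104, 105, 106, 107, 108, 109, 110, 111]

theorem bound_check : adjX.length = 112 ∧ (∀ i < 112, adjX.getD i 0 < 2 ^ 112) ∧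
    chainBound 112 adjX ordX 0 ≤ 8 * 3265920 ∧ (∀ i : Fin 112, ordX.any (Nat.beq i) = true) ∧
    ordX.all (fun x => Nat.blt x 112) = true := by
  decide +kernel

/-- A permutation normalising the model group. -/
def Normalises (p : Equiv.Perm (Fin 112)) : Prop := ∀ s ∈ GP, p * s * p⁻¹ ∈ GP

theorem normalises_mul {p q : Equiv.Perm (Fin 112)} (hp : Normalises p) (hq : Normalises q) :
    Normalises (p * q) := fun s hs => by
  have := hp _ (hq s hs)
  simpa [mul_assoc, mul_inv_rev] using this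

theorem normalises_of_mem {h : Equiv.Perm (Fin 112)} (hh : h ∈ GP) : Normalises h := fun _ hs =>
  mul_mem (mul_mem hh hs) (inv_mem hh)

theorem normalises_tau {i : ℕ} (hi : i < 8) : Normalises (tau i) := fun _ hs => tau_conj hi hs

theorem normalises_inv {p : Equiv.Perm (Fin 112)} (hp : Normalises p) : Normalises p⁻¹ := by
  intro s hs
  have hle : GP.map (MulAut.conj p).toMonoidHom ≤ GP := by
    rintro _ ⟨x, hx, rfl⟩
    exact hp x hx
  have heq : GP.map (MulAut.conj p).toMonoidHom = GP :=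
    Subgroup.eq_of_le_of_card_ge hle
      (le_of_eq (Subgroup.card_map_of_injective (MulAut.conj p).injective).symm)
  rw [← heq] at hs
  obtain ⟨x, hx, rfl⟩ := hs
  simpa [mul_assoc] using hx

theorem far_count : ({i : Fin 112 | i ≠ p0 ∧ ¬ AdjX p0 i}).ncard = 81 ∧
    ({i : Fin 112 | AdjX p0 i}).ncard = 30 ∧ AdjX p0 px ∧ ¬ AdjX p0 p0 := by
  refine ⟨?_, ?_, ?_⟩
  · rw [Set.ncard_eq_toFinset_card', Set.toFinset_ofPred]; decide +kernel
  · rw [Set.ncard_eq_toFinset_card', Set.toFinset_ofPred]; decide +kernel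
  · decide +kernel

/-- A permutation normalising the group and fixing the base point preserves its neighbours. -/
theorem adj_p0_of_fix {p : Equiv.Perm (Fin 112)} (hp : Normalises p) (h0 : p p0 = p0) {j : Fin 112}
    (hj : AdjX p0 j) : AdjX p0 (p j) := by
  obtain ⟨cfar, cnear, hpx, hirr⟩ := far_count
  by_contra hn
  have hjp : j ≠ p0 := fun e => hirr (e ▸ hj)
  have hpj : p j ≠ p0 := fun e => hjp (p.injective (e.trans h0.symm))
  have hsub : {i : Fin 112 | i ≠ p0 ∧ ¬ AdjX p0 i} ⊆ p '' {i | AdjX p0 i} := by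
    rintro i ⟨hi, hi'⟩
    obtain ⟨σ, hσ, e⟩ := suborbit hpj hi ⟨fun h => absurd h hn, fun h => absurd h hi'⟩
    have hσ0 : σ p0 = p0 := hσ.2
    have hw : p⁻¹ * σ * p ∈ GP := by simpa using normalises_inv hp σ hσ.1
    refine ⟨(p⁻¹ * σ * p) j, ?_, ?_⟩
    · have := (adj_GP hw p0 j).2 hj
      have e0 : (p⁻¹ * σ * p) p0 = p0 := by
        rw [Equiv.Perm.mul_apply, Equiv.Perm.mul_apply, h0, hσ0, Equiv.Perm.inv_def,
          Equiv.symm_apply_eq, h0]
      rwa [e0] at this
    · simp [Equiv.Perm.mul_apply, e]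
  have := (Set.ncard_le_ncard hsub (Set.toFinite _)).trans (Set.ncard_image_le (Set.toFinite _))
  omega

/-- A permutation normalising the group preserves adjacency. -/
theorem adj_normalises {p : Equiv.Perm (Fin 112)} (hp : Normalises p) {i j : Fin 112}
    (h : AdjX i j) : AdjX (p i) (p j) := by
  obtain ⟨a, ha, rfl⟩ := GP_trans i
  obtain ⟨b, hb, e⟩ := GP_trans (p (a p0))
  have hq : Normalises (b⁻¹ * p * a) :=
    normalises_mul (normalises_mul (normalises_of_mem (inv_mem hb)) hp) (normalises_of_mem ha)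
  have hj : AdjX p0 (a⁻¹ j) := by
    have := (adj_GP (inv_mem ha) (a p0) j).2 h
    simpa using this
  have := adj_p0_of_fix hq (by
    rw [Equiv.Perm.mul_apply, Equiv.Perm.mul_apply, ← e, Equiv.Perm.inv_def,
      Equiv.symm_apply_apply]) hj
  have h2 := (adj_GP hb _ _).2 this
  rw [Equiv.Perm.mul_apply, Equiv.Perm.mul_apply, e, Equiv.Perm.inv_def b,
    Equiv.Perm.inv_def a, Equiv.apply_symm_apply, Equiv.apply_symm_apply] at h2
  exact h2

/-- The normaliser of the model group. -/
def normGP : Subgroup (Equiv.Perm (Fin 112)) where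
  carrier := {p | Normalises p}
  mul_mem' := fun hp hq => normalises_mul hp hq
  one_mem' := fun s hs => by simpa using hs
  inv_mem' := fun hp => normalises_inv hp

theorem card_normGP : Nat.card normGP ≤ 8 * 3265920 := by
  obtain ⟨hlen, hlt, hb, hcov, hord⟩ := bound_check
  refine le_trans (card_le_chainBound hlen hlt (L := ordX) (P := 0) (fun σ hσ i j => ?_)
    (fun σ _ i hi => absurd hi (by simp)) (fun i => Or.inr ?_) ?_) hb
  · refine Bool.eq_iff_iff.2 ⟨fun h => ?_, fun h => adj_normalises hσ h⟩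
    have := adj_normalises (normalises_inv hσ) (i := σ i) (j := σ j) h
    rw [Equiv.Perm.inv_def, Equiv.symm_apply_apply, Equiv.symm_apply_apply] at this
    exact this
  · obtain ⟨x, hx, e⟩ := List.any_eq_true.1 (hcov i)
    rwa [Nat.eq_of_beq_eq_true e]
  · intro x hx
    exact Nat.blt_eq.mp (List.all_eq_true.1 hord x hx)

/-- The orbit to which a representative sends the orbit of a representative half. -/
def mov (i k : ℕ) : ℕ := (orbMove.getD i []).getD k 0

theorem move_check : ((List.range 8).all fun i => (List.range 4).all fun k =>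
      (orb k).any (Nat.beq (reps.getD k 0)) &&
      (orb (mov i k)).any (Nat.beq (imgM (tauC i) (reps.getD k 0) 112)) &&
      (List.range 4).all fun k' => Nat.beq k' (mov i k) ||
        !(orb k').any (Nat.beq (imgM (tauC i) (reps.getD k 0) 112))) = true ∧
    (∀ i : Fin 8, ∀ j : Fin 8, (∀ k : Fin 4, mov i k = mov j k) → i = j) ∧
    (∀ i : Fin 8, ∀ k : Fin 4, mov i k < 4) := by
  decide +kernel

theorem tau_distinct {i j : Fin 8} {h : Equiv.Perm (Fin 112)} (hh : h ∈ GP)
    (e : tau i = h * tau j) : i = j := by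
  obtain ⟨hc, hinj, hlt⟩ := move_check
  refine hinj i j fun k => ?_
  simp only [List.all_eq_true, List.mem_range, Bool.and_eq_true, Bool.or_eq_true,
    Bool.not_eq_true', List.any_eq_true, List.any_eq_false] at hc
  obtain ⟨⟨-, mi, hmi, emi⟩, hnot⟩ := hc i i.2 k k.2
  obtain ⟨⟨-, mj, hmj, emj⟩, -⟩ := hc j j.2 k k.2
  have hin : InOrb ((mS 112 (reps.getD k 0)).image (tau j)) (mov j k) :=
    ⟨mj, hmj, by rw [tau, image_mS (tau_valid j.2), Nat.eq_of_beq_eq_true emj]⟩
  obtain ⟨m, hm, em⟩ := orb_GP (hlt j k) hin hh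
  rw [Finset.image_image, ← Equiv.Perm.coe_mul, ← e, tau, image_mS (tau_valid i.2),
    Nat.eq_of_beq_eq_true emi] at em
  rcases hnot (mov j k) (hlt j k) with h' | h'
  · exact (Nat.eq_of_beq_eq_true h').symm
  · refine absurd ?_ (h' m hm)
    rw [Nat.eq_of_beq_eq_true emi, ← mS_inj (orb_lt (hlt i k) hmi) (orb_lt (hlt j k) hm) em]
    exact Nat.beq_refl mi

/-- Every permutation normalising the group is in one of the eight cosets. -/
theorem normalises_cases {p : Equiv.Perm (Fin 112)} (hp : Normalises p) :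
    ∃ i < 8, ∃ h ∈ GP, p = h * tau i := by
  classical
  let f : Fin 8 × GP → normGP := fun x =>
    ⟨(x.2 : Equiv.Perm (Fin 112)) * tau x.1, normalises_mul (normalises_of_mem x.2.2) (normalises_tau x.1.2)⟩
  have hinj : Function.Injective f := by
    rintro ⟨i, a⟩ ⟨j, b⟩ e
    have e' : (a : Equiv.Perm (Fin 112)) * tau i = b * tau j := congrArg Subtype.val e
    have hij := tau_distinct (mul_mem (inv_mem a.2) b.2) (i := i) (j := j)
      (by rw [mul_assoc, ← e', inv_mul_cancel_left])
    subst hij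
    exact Prod.ext rfl (Subtype.ext (mul_right_cancel e'))
  have hc : Nat.card (Fin 8 × GP) = Nat.card normGP := by
    refine le_antisymm (Nat.card_le_card_of_injective f hinj) ?_
    rw [Nat.card_prod, Nat.card_fin, card_GP]
    exact card_normGP
  have hbij := (Nat.bijective_iff_injective_and_card f).2 ⟨hinj, hc⟩
  obtain ⟨⟨i, a⟩, e⟩ := hbij.2 ⟨p, hp⟩
  exact ⟨i, i.2, a, a.2, (congrArg Subtype.val e).symm⟩

end CfsgLib.InvChar.SuzUniq
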