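import Cfsg.Agent.Lib.InvChar.SuzUniq.ModelTwice
import Cfsg.Agent.Lib.InvChar.SuzUniq.ModelAut

/-!
A subgroup of order 20160 with self-centralising subgroups of order five is, up to a permutation
normalising the model group, the standard copy of `L₃(4)`.
-/

set_option autoImplicit false
set_option maxRecDepth 100000
set_option maxHeartbeats 400000
set_option Elab.async false

open scoped Pointwise

namespace CfsgLib.InvChar.SuzUniq

open CfsgLib.KnownA.PermCert CfsgLib.KnownA.U4ThreeSchur CfsgLib.Recog.McLRank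

/-- A group of order 180 has an element of order five with a larger centraliser. -/
theorem no_oneEighty {K : Type*} [Group K] [Finite K] (hc : Nat.card K = 180)
    (h : ∀ s : K, orderOf s = 5 → ∀ x : K, x * s = s * x → x ∈ Subgroup.zpowers s) : False := by
  classical
  haveI : Fact (Nat.Prime 5) := ⟨by norm_num⟩
  haveI : Fact (Nat.Prime 3) := ⟨by norm_num⟩
  obtain ⟨P⟩ := (inferInstance : Nonempty (Sylow 5 K))
  have hP : Nat.card (P : Subgroup K) = 5 := by
    rw [P.card_eq_multiplicity, hc, show (180 : ℕ) = 5 ^ 1 * 36 by norm_num,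
      Nat.factorization_mul (by norm_num) (by norm_num), Finsupp.add_apply,
      Nat.Prime.factorization_pow (by norm_num), Finsupp.single_eq_same,
      Nat.factorization_eq_zero_of_not_dvd (show ¬ 5 ∣ 36 by norm_num)]
    norm_num
  obtain ⟨⟨s, hsP⟩, hs⟩ := exists_prime_orderOf_dvd_card' (G := (P : Subgroup K)) 5 (by rw [hP])
  rw [Subgroup.orderOf_mk] at hs
  have hPz : (P : Subgroup K) = Subgroup.zpowers s :=
    (Subgroup.eq_of_le_of_card_ge ((Subgroup.zpowers_le).2 hsP)
      (by rw [hP, Nat.card_zpowers, hs])).symm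
  set N := Subgroup.normalizer ((P : Subgroup K) : Set K) with hN
  haveI := Fintype.ofFinite K
  have hNle : Nat.card N ≤ 20 := by
    let T : Finset K := (Finset.univ.filter fun x => x ∈ (P : Subgroup K)).erase 1
    have hTc : T.card ≤ 4 := by
      rw [Finset.card_erase_of_mem (by simp [one_mem]), ← Fintype.card_subtype, ← Nat.card_eq_fintype_card]
      exact le_of_eq (by rw [hP])
    have hmaps : ∀ a ∈ (Finset.univ : Finset N), (a : K) * s * (a : K)⁻¹ ∈ T := fun a _ => by
      have hs1 : s ≠ 1 := fun e => by rw [e, orderOf_one] at hs; omega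
      refine Finset.mem_erase.2 ⟨fun e => hs1 (conj_eq_one_iff.1 e), Finset.mem_filter.2 ⟨Finset.mem_univ _, ?_⟩⟩
      exact (Subgroup.mem_normalizer_iff.1 a.2 s).1 hsP
    have hb : ∀ t ∈ T, ((Finset.univ : Finset N).filter fun a : N => (a : K) * s * (a : K)⁻¹ = t).card ≤ 5 := by
      intro t _
      by_cases hex : ∃ a : N, (a : K) * s * (a : K)⁻¹ = t
      · obtain ⟨a, ha⟩ := hex
        calc _ ≤ (Finset.univ.filter fun x => x ∈ (P : Subgroup K)).card := by
              refine Finset.card_le_card_of_injOn (fun b => (a : K)⁻¹ * (b : K)) ?_ ?_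
              · intro b hb
                have hb' : (b : K) * s * (b : K)⁻¹ = t := (Finset.mem_filter.1 hb).2
                refine Finset.mem_filter.2 ⟨Finset.mem_univ _, ?_⟩
                rw [hPz]
                refine h s hs _ ?_
                have e : (b : K) * s * (b : K)⁻¹ = (a : K) * s * (a : K)⁻¹ := hb'.trans ha.symm
                calc (a : K)⁻¹ * b * s = (a : K)⁻¹ * ((b : K) * s * (b : K)⁻¹) * b := by group
                  _ = (a : K)⁻¹ * ((a : K) * s * (a : K)⁻¹) * b := by rw [e]
                  _ = s * ((a : K)⁻¹ * b) := by group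
              · intro b _ b' _ e
                exact Subtype.ext (mul_left_cancel e)
          _ = 5 := by rw [← Fintype.card_subtype, ← Nat.card_eq_fintype_card]; exact hP
      · rw [Finset.filter_eq_empty_iff.2 fun {a} _ e => hex ⟨a, e⟩]; simp
    have := Finset.card_le_mul_card_image_of_maps_to hmaps 5 hb
    rw [Finset.card_univ, ← Nat.card_eq_fintype_card] at this
    omega
  have hmod := card_sylow_modEq_one 5 K
  rw [Sylow.card_eq_index_normalizer P] at hmod
  have hmul := Subgroup.card_mul_index N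
  rw [hc] at hmul
  have h5N : 5 ∣ Nat.card N := hP ▸ Subgroup.card_dvd_of_le Subgroup.le_normalizer
  have hidx : N.index % 5 = 1 := hmod
  have hN5 : Nat.card N = 5 := by
    obtain ⟨q, hq⟩ := h5N
    have hq4 : q ≤ 4 := by omega
    rw [hq] at hmul ⊢
    interval_cases q <;> omega
  have hNP : N = (P : Subgroup K) :=
    (Subgroup.eq_of_le_of_card_ge Subgroup.le_normalizer (by rw [hN5, hP])).symm
  have hcen : Subgroup.normalizer ((P : Subgroup K) : Set K) ≤ Subgroup.centralizer ((P : Subgroup K) : Set K) := by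
    rw [← hN, hNP, hPz]
    intro x hx
    rw [Subgroup.mem_centralizer_iff]
    intro y hy
    obtain ⟨m, rfl⟩ := Subgroup.mem_zpowers_iff.1 hx
    obtain ⟨n, rfl⟩ := Subgroup.mem_zpowers_iff.1 hy
    exact (Commute.zpow_zpow_self s n m).eq
  set H := (MonoidHom.transferSylow P hcen).ker with hH
  have hcomp := MonoidHom.ker_transferSylow_isComplement' P hcen
  have hH36 : Nat.card H = 36 := by
    have := hcomp.card_mul_card
    rw [hP, hc, ← hH] at this
    omega
  have hle : ∀ R : Sylow 3 K, (R : Subgroup K) ≤ H := by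
    intro R x hx
    rw [hH, MonoidHom.mem_ker]
    have hR : Nat.card (R : Subgroup K) = 9 := by
      rw [R.card_eq_multiplicity, hc, show (180 : ℕ) = 3 ^ 2 * 20 by norm_num,
        Nat.factorization_mul (by norm_num) (by norm_num), Finsupp.add_apply,
        Nat.Prime.factorization_pow (by norm_num), Finsupp.single_eq_same,
        Nat.factorization_eq_zero_of_not_dvd (show ¬ 3 ∣ 20 by norm_num)]
      norm_num
    have h1 : orderOf (MonoidHom.transferSylow P hcen x) ∣ 9 :=
      (orderOf_map_dvd _ x).trans ((Subgroup.orderOf_dvd_natCard _ hx).trans (by rw [hR]))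
    have h2 : orderOf (MonoidHom.transferSylow P hcen x) ∣ 5 :=
      (orderOf_dvd_natCard _).trans (by rw [hP])
    have := Nat.dvd_gcd h1 h2
    rw [show Nat.gcd 9 5 = 1 by norm_num, Nat.dvd_one, orderOf_eq_one_iff] at this
    exact this
  have hn3 : Nat.card (Sylow 3 K) ≤ 4 := by
    refine le_trans (Nat.card_le_card_of_injective (fun R => R.subtype (hle R)) ?_) ?_
    · intro R R' e
      exact Sylow.subtype_injective e
    · obtain ⟨R⟩ := (inferInstance : Nonempty (Sylow 3 H))
      have hR : Nat.card (R : Subgroup H) = 9 := by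
        rw [R.card_eq_multiplicity, hH36, show (36 : ℕ) = 3 ^ 2 * 4 by norm_num,
          Nat.factorization_mul (by norm_num) (by norm_num), Finsupp.add_apply,
          Nat.Prime.factorization_pow (by norm_num), Finsupp.single_eq_same,
          Nat.factorization_eq_zero_of_not_dvd (show ¬ 3 ∣ 4 by norm_num)]
        norm_num
      have hm := Subgroup.card_mul_index (R : Subgroup H)
      rw [hR, hH36] at hm
      have hd := Sylow.card_dvd_index R
      rw [show (R : Subgroup H).index = 4 by omega] at hd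
      exact Nat.le_of_dvd (by norm_num) hd
  haveI := Fintype.ofFinite (Sylow 3 K)
  have hnd : ¬ 5 ∣ Fintype.card (Sylow 3 K) := by
    rw [← Nat.card_eq_fintype_card]
    intro hd
    have := Nat.le_of_dvd Nat.card_pos hd
    omega
  obtain ⟨R, hR⟩ := Equiv.Perm.exists_fixed_point_of_prime (p := 5) (n := 1) hnd
    (σ := MulAction.toPermHom K (Sylow 3 K) s)
    (by rw [← map_pow, pow_one, ← hs, pow_orderOf_eq_one, map_one])
  have hsR : s ∈ Subgroup.normalizer ((R : Subgroup K) : Set K) := Sylow.smul_eq_iff_mem_normalizer.1 hR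
  let A : Finset K := (Finset.univ.filter fun x => x ∈ (R : Subgroup K)).erase 1
  have hAc : A.card = 8 := by
    rw [Finset.card_erase_of_mem (by simp [one_mem]), ← Fintype.card_subtype, ← Nat.card_eq_fintype_card]
    have hR9 : Nat.card (R : Subgroup K) = 9 := by
      rw [R.card_eq_multiplicity, hc, show (180 : ℕ) = 3 ^ 2 * 20 by norm_num,
        Nat.factorization_mul (by norm_num) (by norm_num), Finsupp.add_apply,
        Nat.Prime.factorization_pow (by norm_num), Finsupp.single_eq_same,
        Nat.factorization_eq_zero_of_not_dvd (show ¬ 3 ∣ 20 by norm_num)]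
      norm_num
    exact (congrArg (· - 1) hR9)
  have hd : 5 ∣ A.card := by
    refine five_dvd_card (MulAut.conj s).toEquiv A (fun a ha => ?_) ?_ (fun a ha e => ?_)
    · rw [Finset.mem_erase, Finset.mem_filter] at ha ⊢
      refine ⟨fun e => ha.1 ?_, Finset.mem_univ _, (Subgroup.mem_normalizer_iff.1 hsR a).1 ha.2.2⟩
      exact conj_eq_one_iff.1 e
    · have h5 : (MulAut.toPerm K) (MulAut.conj s ^ 5) = 1 := by
        rw [← map_pow, show s ^ 5 = 1 by rw [← hs]; exact pow_orderOf_eq_one s, map_one, map_one]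
      rwa [map_pow] at h5
    · rw [Finset.mem_erase, Finset.mem_filter] at ha
      have e' : s * a * s⁻¹ = a := e
      have hz := h s hs a (mul_inv_eq_iff_eq_mul.1 e').symm
      have h1 : orderOf a ∣ 5 :=
        (Subgroup.orderOf_dvd_natCard _ hz).trans (by rw [Nat.card_zpowers, hs])
      have h2 : orderOf a ∣ Nat.card (R : Subgroup K) := Subgroup.orderOf_dvd_natCard _ ha.2.2
      obtain ⟨n, hn⟩ := IsPGroup.iff_card.1 R.isPGroup'
      rw [hn] at h2
      have := Nat.dvd_gcd h1 h2
      rw [Nat.Coprime.pow_right n (by norm_num : Nat.Coprime 5 3), Nat.dvd_one, orderOf_eq_one_iff] at this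
      exact ha.1 this
  rw [hAc] at hd
  omega

theorem card_stab_point (x : Fin 112) :
    Nat.card (GP ⊓ MulAction.stabilizer (Equiv.Perm (Fin 112)) x :
      Subgroup (Equiv.Perm (Fin 112))) = 29160 := by
  have h := card_orbSet GP x
  have hu : orbSet GP x = Set.univ := Set.eq_univ_of_forall fun y => by
    obtain ⟨a, ha, e⟩ := GP_trans x
    obtain ⟨b, hb, e'⟩ := GP_trans y
    exact ⟨b * a⁻¹, mul_mem hb (inv_mem ha), by
      rw [Equiv.Perm.mul_apply, ← e, Equiv.Perm.inv_def, Equiv.symm_apply_apply, e']⟩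
  rw [hu, Set.ncard_univ, Nat.card_fin, card_GP] at h
  omega

/-- The index of the representative carrying an orbit to the orbit of the first half. -/
def to3 : List ℕ := [2, 5, 4, 0]

theorem to3_check : ((List.range 4).all fun k => Nat.blt (to3.getD k 0) 8 &&
    (orb k).all fun m => (orb 3).any (Nat.beq (imgM (tauC (to3.getD k 0)) m 112))) = true := by
  decide +kernel

/-- The subgroup is conjugate to the standard copy under the normaliser of the model group. -/
theorem exists_normalise {L : Subgroup (Equiv.Perm (Fin 112))} (hL : L ≤ GP)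
    (hcard : Nat.card L = 20160)
    (hfive : ∀ s ∈ L, orderOf s = 5 → ∀ x ∈ L, x * s = s * x → x ∈ Subgroup.zpowers s) :
    ∃ p : Equiv.Perm (Fin 112), (∀ s ∈ GP, p * s * p⁻¹ ∈ GP) ∧
      L.map (MulAut.conj p).toMonoidHom = Lstd := by
  classical
  let Lx : Fin 112 → Subgroup (Equiv.Perm (Fin 112)) := fun x =>
    L ⊓ MulAction.stabilizer (Equiv.Perm (Fin 112)) x
  have horb : ∀ x, (orbSet L x).ncard = 56 ∧ Nat.card (Lx x) = 360 := by
    intro x
    have hm := card_orbSet L x
    rw [hcard] at hm
    have hm' : (orbSet L x).ncard * Nat.card (Lx x) = 20160 := hm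
    have hd : Nat.card (Lx x) ∣ 360 := by
      rw [show 360 = Nat.gcd 20160 29160 by norm_num]
      exact Nat.dvd_gcd (hcard ▸ Subgroup.card_dvd_of_le inf_le_left)
        (card_stab_point x ▸ Subgroup.card_dvd_of_le (inf_le_inf hL le_rfl))
    have hle : (orbSet L x).ncard ≤ 112 := by
      simpa using Set.ncard_le_card (orbSet L x)
    have h180 : Nat.card (Lx x) ≠ 180 := fun e => no_oneEighty e fun s hs y hy => by
      have hy' : (y : Equiv.Perm (Fin 112)) * s = s * y := congrArg Subtype.val hy
      obtain ⟨n, hn⟩ := Subgroup.mem_zpowers_iff.1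
        (hfive s s.2.1 (by rw [Subgroup.orderOf_coe]; exact hs) y y.2.1 hy')
      exact Subgroup.mem_zpowers_iff.2 ⟨n, Subtype.ext (by rw [Subgroup.coe_zpow]; exact hn)⟩
    obtain ⟨q, hq⟩ := hd
    have hq0 : 0 < q := Nat.pos_of_ne_zero fun e => by rw [e, mul_zero] at hq; omega
    have hq2 : q ≤ 2 := by
      by_contra hc
      have : Nat.card (Lx x) ≤ 120 := by nlinarith
      nlinarith
    interval_cases q
    · have e : Nat.card (Lx x) = 360 := by omega
      rw [e] at hm'
      exact ⟨by omega, e⟩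
    · omega
  obtain ⟨S, hS⟩ : ∃ S : Finset (Fin 112), (S : Set (Fin 112)) = orbSet L p0 :=
    ⟨(Set.toFinite _).toFinset, Set.Finite.coe_toFinset _⟩
  have hSm : ∀ z, z ∈ S ↔ z ∈ orbSet L p0 := fun z => by rw [← hS, Finset.mem_coe]
  have hScard : S.card = 56 := by rw [← Set.ncard_coe_finset, hS]; exact (horb p0).1
  have hinv : ∀ σ ∈ L, ∀ z, σ z ∈ S ↔ z ∈ S := by
    intro σ hσ z
    rw [hSm, hSm]
    constructor
    · rintro ⟨ρ, hρ, e⟩
      exact ⟨σ⁻¹ * ρ, mul_mem (inv_mem hσ) hρ, by
        rw [Equiv.Perm.mul_apply, e, Equiv.Perm.inv_def, Equiv.symm_apply_apply]⟩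
    · rintro ⟨ρ, hρ, e⟩
      exact ⟨σ * ρ, mul_mem hσ hρ, by rw [Equiv.Perm.mul_apply, e]⟩
  have hout : ∀ x, x ∉ S → orbSet L x = ((Sᶜ : Finset (Fin 112)) : Set (Fin 112)) := by
    intro x hx
    refine Set.eq_of_subset_of_ncard_le ?_ ?_ (Set.toFinite _)
    · rintro _ ⟨ρ, hρ, rfl⟩
      rw [Finset.mem_coe, Finset.mem_compl, hinv ρ hρ]
      exact hx
    · rw [Set.ncard_coe_finset, Finset.card_compl, Fintype.card_fin, hScard, (horb x).1]
  have hH : HalfOrbit L S :=
    { le := hL
      card := hScard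
      inv := hinv
      trans := fun x hx y hy => by
        obtain ⟨a, ha, e⟩ := (hSm x).1 hx
        obtain ⟨b, hb, e'⟩ := (hSm y).1 hy
        exact ⟨b * a⁻¹, mul_mem hb (inv_mem ha), by
          rw [Equiv.Perm.mul_apply, ← e, Equiv.Perm.inv_def, Equiv.symm_apply_apply, e']⟩
      trans' := fun x hx y hy => by
        have : y ∈ orbSet L x := by rw [hout x hx, Finset.mem_coe, Finset.mem_compl]; exact hy
        exact this
      five := fun x => by
        haveI : Fact (Nat.Prime 5) := ⟨by norm_num⟩
        obtain ⟨⟨σ, hσ⟩, ho⟩ := exists_prime_orderOf_dvd_card' (G := Lx x) 5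
          (by rw [(horb x).2]; norm_num)
        rw [Subgroup.orderOf_mk] at ho
        refine ⟨σ, hσ.1, hσ.2, by rw [← ho]; exact pow_orderOf_eq_one σ, fun e => ?_⟩
        rw [e, orderOf_one] at ho
        omega }
  haveI : Fact (Nat.Prime 7) := ⟨by norm_num⟩
  obtain ⟨⟨g, hg⟩, hg7⟩ := exists_prime_orderOf_dvd_card' (G := L) 7 (by rw [hcard]; norm_num)
  rw [Subgroup.orderOf_mk] at hg7
  have himg : ∀ σ ∈ L, S.image σ = S := fun σ hσ => by
    refine Finset.eq_of_subset_of_card_le (Finset.image_subset_iff.2 fun z hz => (hinv σ hσ z).2 hz) ?_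
    rw [Finset.card_image_of_injective _ σ.injective]
  obtain ⟨k, hk⟩ := twice_orbit hH.twice (hL hg) hg7 (himg g hg)
  obtain ⟨m, hm, em⟩ := hk 1 (one_mem _)
  have em' : S = mS 112 m := by simpa using em
  have hc := to3_check
  simp only [List.all_eq_true, List.mem_range, Bool.and_eq_true, Nat.blt_eq, List.any_eq_true] at hc
  obtain ⟨hi, hto⟩ := hc k k.2
  obtain ⟨m', hm', e'⟩ := hto m hm
  have h3 : InOrb (S.image (tau (to3.getD k 0))) 3 :=
    ⟨m', hm', by rw [em', tau, image_mS (tau_valid hi), Nat.eq_of_beq_eq_true e']⟩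
  obtain ⟨σ, hσ, eσ⟩ := trans_S0 h3
  refine ⟨σ⁻¹ * tau (to3.getD k 0),
    normalises_mul (normalises_of_mem (inv_mem (genK_le hσ))) (normalises_tau hi), ?_⟩
  have hpS : S.image (σ⁻¹ * tau (to3.getD k 0) : Equiv.Perm (Fin 112)) = S0 := by
    rw [Equiv.Perm.coe_mul, ← Finset.image_image, ← eσ, Finset.image_image, ← Equiv.Perm.coe_mul,
      inv_mul_cancel]
    simp
  set p := σ⁻¹ * tau (to3.getD k 0) with hp
  have hp0 : Normalises p :=
    normalises_mul (normalises_of_mem (inv_mem (genK_le hσ))) (normalises_tau hi)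
  refine Subgroup.eq_of_le_of_card_ge ?_ ?_
  · rintro _ ⟨x, hx, rfl⟩
    refine mem_Lstd (hp0 x (hL hx)) ?_
    show S0.image (p * x * p⁻¹ : Equiv.Perm (Fin 112)) = S0
    rw [← hpS, Finset.image_image, ← Equiv.Perm.coe_mul, inv_mul_cancel_right, Equiv.Perm.coe_mul,
      ← Finset.image_image, himg x hx]
  · rw [Subgroup.card_map_of_injective (MulAut.conj p).injective, card_Lstd_eq, hcard]

end CfsgLib.InvChar.SuzUniq
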