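import Cfsg.Agent.Lib.InvChar.SuzUniq.Hom
import Cfsg.Agent.Lib.InvChar.SuzUniq.ModelOuter
import Cfsg.Agent.Lib.InvChar.SuzUniq.ModelSub
import Cfsg.Agent.Lib.InvChar.SuzUniq.Index

/-!
# Uniqueness of Suz
-/

set_option autoImplicit false

namespace CfsgLib.InvChar.SuzUniq

open Subgroup

universe u

/-- The model facts hold. -/
theorem cert : Cert.{u} where
  normalise := fun _ hL hc h5 => exists_normalise hL hc h5
  outer := fun _ hG hL => outer_cases hG hL
  delta_sq := delta_sq
  delta_not := delta_notMem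
  delta_a := delta_comm.1
  delta_b := delta_comm.2.1
  delta_f := delta_comm.2.2.1
  delta_g := delta_comm.2.2.2
  delta_cd := delta_rel.1
  delta_w := delta_rel.2
  delta_gen := GP_le_closure
  index := fun _ _ _ a b c d f g R hd da db df dg hcd hx => card_le a b c d f g R hd da db df dg hcd hx

/-- A group of Suzuki type is the presented group Suz. -/
theorem iso_of_type {G : Type u} [Group G] [Finite G] (z : G) (hz : orderOf z = 2)
    (Q : Subgroup (centralizer ({z} : Set G))) [Q.Normal]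
    (hF : Cfsg.generalizedFittingSubgroup (centralizer ({z} : Set G)) = Q)
    (hQ : Cfsg.IsExtraspecial 2 Q) (hcard : Nat.card Q = 2 ^ 7)
    (e : (centralizer ({z} : Set G)) ⧸ Q ≃* Cfsg.Omega (ZMod 2) (Cfsg.quadFormMinus 2 (ZMod 2) 1 1))
    (hnwc : ∃ g : G, (∃ hq : g * z * g⁻¹ ∈ centralizer ({z} : Set G),
      (⟨g * z * g⁻¹, hq⟩ : centralizer ({z} : Set G)) ∈ Q) ∧ g * z * g⁻¹ ≠ z) :
    Cfsg.Spor.IsoSuz G := by
  obtain ⟨F⟩ := exists_uframe z hz Q hF hQ hcard e hnwc
  exact iso_of_uframe cert F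

end CfsgLib.InvChar.SuzUniq
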