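import Cfsg.Agent.Lib.InvChar.KleinCentralizerFive
import Mathlib.GroupTheory.SpecificGroups.Alternating
import Mathlib.Data.Fintype.Perm

/-!
# A self-centralising four group and an involution outside its normaliser

If `E` is a four group, the centraliser of each of its involutions in the group generated by `E`, an
element `y` of order three permuting `E` transitively and an involution `d` inverting `y` is `E`, and
`d` does not normalise `E`, then that group is `A₅`; so `(d e)³ = 1` for some involution `e` of `E`.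
-/

set_option autoImplicit false
set_option maxRecDepth 100000

namespace CfsgLib.InvChar.SuzUniq

open Subgroup

set_option synthInstance.maxSize 20000 in
set_option synthInstance.maxHeartbeats 1000000 in
theorem alt_five_triangle : ∀ e₁ : alternatingGroup (Fin 5), e₁ * e₁ = 1 → e₁ ≠ 1 →
    ∀ e₂ : alternatingGroup (Fin 5), e₂ * e₂ = 1 → e₂ ≠ 1 → e₂ ≠ e₁ → e₁ * e₂ = e₂ * e₁ →
    ∀ d : alternatingGroup (Fin 5), d * d = 1 → d ≠ 1 → d ≠ e₁ → d ≠ e₂ → d ≠ e₁ * e₂ →
    (d * e₁) ^ 3 = 1 ∨ (d * e₂) ^ 3 = 1 ∨ (d * (e₁ * e₂)) ^ 3 = 1 := by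
  decide +kernel

variable {G : Type*} [Group G] [Finite G]

/-- An involution outside the normaliser of a self-centralising four group has product of order three
with one of its involutions. -/
theorem exists_triangle {E : Subgroup G} (hE : Nat.card E = 4) (sqE : ∀ e ∈ E, e * e = 1)
    {t y d : G} (ht : t ∈ E) (ht1 : t ≠ 1) (hy3 : y ^ 3 = 1) (hyE : ∀ e ∈ E, y * e * y⁻¹ ∈ E)
    (hyt : y * t * y⁻¹ ≠ t) (hd : d * d = 1) (hdy : d * y * d = y⁻¹)
    (hdE : d ∉ E) (hcent : ∀ g ∈ closure ((E : Set G) ∪ {y, d}), g * t = t * g → g ∈ E) :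
    ∃ e ∈ E, e ≠ 1 ∧ (d * e) ^ 3 = 1 := by
  classical
  set Z := closure ((E : Set G) ∪ {y, d}) with hZdef
  have hEZ : E ≤ Z := fun e he => subset_closure (Or.inl he)
  have hyZ : y ∈ Z := subset_closure (Or.inr (Or.inl rfl))
  have hdZ : d ∈ Z := subset_closure (Or.inr (Or.inr rfl))
  have hy0 : y * y * y = 1 := by rw [← pow_three' y]; exact hy3
  have hy1 : y ≠ 1 := fun e => hyt (by rw [e]; group)
  have hd1 : d ≠ 1 := fun e => hdE (e ▸ E.one_mem)
  -- the three involutions of `E`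
  set t₁ := y * t * y⁻¹ with ht₁
  set t₂ := y * t₁ * y⁻¹ with ht₂
  have ht₁E : t₁ ∈ E := hyE t ht
  have ht₂E : t₂ ∈ E := hyE _ ht₁E
  have hne : ∀ {a : G}, a ≠ 1 → y * a * y⁻¹ ≠ 1 := fun ha e => ha (conj_eq_one_iff.1 e)
  have h12 : t₂ ≠ t₁ := fun e => hyt (by
    rw [ht₂, ht₁] at e
    exact mul_left_cancel (mul_right_cancel e))
  have h02 : t₂ ≠ t := fun e => hyt (by
    have h3 : y * t₂ * y⁻¹ = t := by
      rw [ht₂, ht₁, show y * (y * (y * t * y⁻¹) * y⁻¹) * y⁻¹ = (y * y * y) * t * (y * y * y)⁻¹ by group, hy0]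
      group
    rw [e] at h3
    exact h3)
  have hcases : ∀ e ∈ E, e = 1 ∨ e = t ∨ e = t₁ ∨ e = t₂ := by
    intro e he
    by_contra! hc
    obtain ⟨h1, h2, h3, h4⟩ := hc
    let f : Fin 5 → E := ![1, ⟨t, ht⟩, ⟨t₁, ht₁E⟩, ⟨t₂, ht₂E⟩, ⟨e, he⟩]
    have hf : Function.Injective f := by
      intro i j h
      have h' := congrArg (Subtype.val : E → G) h
      fin_cases i <;> fin_cases j <;> simp [f] at h' ⊢ <;>
        first
          | exact absurd h'.symm ht1
          | exact absurd h' ht1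
          | exact absurd h'.symm (hne ht1)
          | exact absurd h' (hne ht1)
          | exact absurd h'.symm (hne (hne ht1))
          | exact absurd h' (hne (hne ht1))
          | exact absurd h' hyt
          | exact absurd h'.symm hyt
          | exact absurd h' h12
          | exact absurd h'.symm h12
          | exact absurd h' h02
          | exact absurd h'.symm h02
          | exact absurd h' h1
          | exact absurd h'.symm h1
          | exact absurd h' h2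
          | exact absurd h'.symm h2
          | exact absurd h' h3
          | exact absurd h'.symm h3
          | exact absurd h' h4
          | exact absurd h'.symm h4
    have := Nat.card_le_card_of_injective f hf
    rw [hE, Nat.card_fin] at this
    omega
  -- centralisers of all three
  have hcentE : ∀ e ∈ E, e ≠ 1 → ∀ g ∈ Z, g * e = e * g → g ∈ E := by
    intro e he he1 g hg hge
    obtain ⟨k, hk⟩ : ∃ k : G, k ∈ Z ∧ (∀ x ∈ E, k * x * k⁻¹ ∈ E) ∧ (∀ x, k * x * k⁻¹ ∈ E → x ∈ E) ∧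
        k * e * k⁻¹ = t := by
      have hy2 : ∀ x, y * y * (y * x * y⁻¹) * (y * y)⁻¹ = x := fun x => by
        rw [show y * y * (y * x * y⁻¹) * (y * y)⁻¹ = (y * y * y) * x * (y * y * y)⁻¹ by group, hy0]; group
      have hyy : ∀ x, y * (y * y * x * (y * y)⁻¹) * y⁻¹ = x := fun x => by
        rw [show y * (y * y * x * (y * y)⁻¹) * y⁻¹ = (y * y * y) * x * (y * y * y)⁻¹ by group, hy0]; group
      have hyyE : ∀ x ∈ E, y * y * x * (y * y)⁻¹ ∈ E := fun x hx => by
        rw [show y * y * x * (y * y)⁻¹ = y * (y * x * y⁻¹) * y⁻¹ by group]; exact hyE _ (hyE _ hx)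
      rcases hcases e he with rfl | rfl | rfl | rfl
      · exact absurd rfl he1
      · exact ⟨1, Z.one_mem, fun x hx => by simpa using hx, fun x hx => by simpa using hx, by group⟩
      · exact ⟨y * y, mul_mem hyZ hyZ, hyyE, fun x hx => by have := hyE _ hx; rwa [hyy] at this,
          hy2 t⟩
      · refine ⟨y, hyZ, hyE, fun x hx => by have := hyyE _ hx; rwa [hy2] at this, ?_⟩
        rw [ht₂, ht₁, show y * (y * (y * t * y⁻¹) * y⁻¹) * y⁻¹ = (y * y * y) * t * (y * y * y)⁻¹ by group, hy0]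
        group
    refine hk.2.2.1 g (hcent _ (mul_mem (mul_mem hk.1 hg) (inv_mem hk.1)) ?_)
    rw [← hk.2.2.2]
    calc k * g * k⁻¹ * (k * e * k⁻¹) = k * (g * e) * k⁻¹ := by group
      _ = k * (e * g) * k⁻¹ := by rw [hge]
      _ = k * e * k⁻¹ * (k * g * k⁻¹) := by group
  -- the group is simple
  have hEab : ∀ a ∈ E, ∀ b ∈ E, a * b = b * a := fun a ha b hb => by
    have h1 := sqE _ (mul_mem ha hb)
    rw [← inv_eq_of_mul_eq_one_right (sqE a ha), ← inv_eq_of_mul_eq_one_right (sqE b hb),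
      ← mul_inv_rev, inv_eq_iff_mul_eq_one]
    rw [inv_eq_of_mul_eq_one_right (sqE a ha), inv_eq_of_mul_eq_one_right (sqE b hb)]
    calc b * a * (b * a) = b * (a * b) * a := by group
      _ = _ := by
        have := sqE _ (mul_mem hb ha)
        rw [mul_assoc] at this ⊢
        simpa [mul_assoc] using this
  have : Fact (Nat.Prime 2) := ⟨Nat.prime_two⟩
  let tZ : Z := ⟨t, hEZ ht⟩
  have hsimple : IsSimpleGroup Z := by
    have : Nontrivial Z := ⟨⟨⟨y, hyZ⟩, 1, fun e => hy1 (congrArg Subtype.val e)⟩⟩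
    refine ⟨fun N hN => or_iff_not_imp_left.2 fun hNb => ?_⟩
    obtain ⟨n, hn, hn1⟩ := (Subgroup.ne_bot_iff_exists_ne_one.1 hNb : ∃ n : N, n ≠ 1) |> fun ⟨n, hn⟩ =>
      (⟨n.1, n.2, fun e => hn (Subtype.ext e)⟩ : ∃ n ∈ N, n ≠ (1 : Z))
    -- an involution of `E` lies in `N`
    have hin : ∃ e ∈ E, e ≠ 1 ∧ ∃ h : e ∈ Z, (⟨e, h⟩ : Z) ∈ N := by
      by_contra! hno
      have key : ∀ e ∈ E, e ≠ 1 → ∀ m : Z, m ∈ N → e * (m : G) = m * e → m = 1 := by
        intro e he he1 m hm hem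
        have hmE := hcentE e he he1 m m.2 hem.symm
        by_contra hm1
        exact hno _ hmE (fun e => hm1 (Subtype.ext e)) m.2 (by simpa using hm)
      -- each involution of `E` inverts `N`
      have hinv : ∀ e (he : e ∈ E), e ≠ 1 → ∀ m : Z, m ∈ N →
          (⟨e, hEZ he⟩ : Z) * m * (⟨e, hEZ he⟩ : Z) = m⁻¹ := by
        intro e he he1
        let eZ : Z := ⟨e, hEZ he⟩
        have hee : eZ * eZ = 1 := Subtype.ext (sqE e he)
        have hei : eZ⁻¹ = eZ := inv_eq_of_mul_eq_one_right hee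
        let F : N → N := fun m => ⟨m.1⁻¹ * (eZ * m.1 * eZ), mul_mem (inv_mem m.2) (by
          have := hN.conj_mem m.1 m.2 eZ; rwa [hei] at this)⟩
        have hF : Function.Injective F := by
          rintro ⟨m, hm⟩ ⟨m', hm'⟩ h
          have h' : m⁻¹ * (eZ * m * eZ) = m'⁻¹ * (eZ * m' * eZ) := congrArg Subtype.val h
          have h2 : eZ * (m * m'⁻¹) * eZ = m * m'⁻¹ := by
            calc eZ * (m * m'⁻¹) * eZ = (eZ * m * eZ) * (eZ * m' * eZ)⁻¹ := by
                  rw [mul_inv_rev, mul_inv_rev, hei]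
                  calc _ = eZ * m * 1 * m'⁻¹ * eZ := by group
                    _ = eZ * m * (eZ * eZ) * m'⁻¹ * eZ := by rw [hee]
                    _ = _ := by group
              _ = m * (m⁻¹ * (eZ * m * eZ)) * (eZ * m' * eZ)⁻¹ := by group
              _ = m * m'⁻¹ := by rw [h']; group
          have := key e he he1 (m * m'⁻¹) (mul_mem hm (inv_mem hm')) (by
            have h3 : eZ * (m * m'⁻¹) = m * m'⁻¹ * eZ := by
              conv_rhs => rw [← h2, mul_assoc _ eZ eZ, hee, mul_one]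
            exact congrArg Subtype.val h3)
          exact Subtype.ext (mul_inv_eq_one.1 this)
        intro m hm
        obtain ⟨⟨k, hk⟩, hkm⟩ := (Finite.injective_iff_surjective.1 hF) ⟨m, hm⟩
        have hkm' : k⁻¹ * (eZ * k * eZ) = m := congrArg Subtype.val hkm
        rw [← hkm', mul_inv_rev, mul_inv_rev, mul_inv_rev, inv_inv, hei]
        calc eZ * (k⁻¹ * (eZ * k * eZ)) * eZ = eZ * k⁻¹ * eZ * k * (eZ * eZ) := by group
          _ = _ := by rw [hee]; group
      have e01 : (⟨t, hEZ ht⟩ : Z) * ⟨t₁, hEZ ht₁E⟩ ≠ 1 := fun e => hyt (by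
        have h' : t * t₁ = 1 := congrArg Subtype.val e
        rw [← inv_eq_of_mul_eq_one_right h', inv_eq_of_mul_eq_one_right (sqE t ht)])
      refine hn1 (key (t * t₁) (mul_mem ht ht₁E) (fun e => e01 (Subtype.ext e)) n hn ?_)
      have a1 := hinv t ht ht1 n hn
      have a2 := hinv t₁ ht₁E (hne ht1) n hn
      have b1 : t * (n : G) * t = (n : G)⁻¹ := congrArg Subtype.val a1
      have b2 : t₁ * (n : G) * t₁ = (n : G)⁻¹ := congrArg Subtype.val a2
      calc t * t₁ * (n : G) = t * (t₁ * n * t₁) * t₁⁻¹ := by group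
        _ = t * (n : G)⁻¹ * t₁ := by rw [b2, inv_eq_of_mul_eq_one_right (sqE t₁ ht₁E)]
        _ = t * (t * n * t) * t₁ := by rw [b1]
        _ = t * t * n * (t * t₁) := by group
        _ = (n : G) * (t * t₁) := by rw [sqE t ht, one_mul]
    -- so all of them do
    obtain ⟨e, he, he1, heZ, heN⟩ := hin
    have hy' : ∀ x (hx : x ∈ Z), (⟨x, hx⟩ : Z) ∈ N → (⟨y * x * y⁻¹, mul_mem (mul_mem hyZ hx) (inv_mem hyZ)⟩ : Z) ∈ N :=
      fun x hx h => hN.conj_mem _ h ⟨y, hyZ⟩
    have hback : ∀ x, y * (y * (y * x * y⁻¹) * y⁻¹) * y⁻¹ = x := fun x => by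
      rw [show y * (y * (y * x * y⁻¹) * y⁻¹) * y⁻¹ = (y * y * y) * x * (y * y * y)⁻¹ by group, hy0]; group
    have hEN : ∀ x (hx : x ∈ E), (⟨x, hEZ hx⟩ : Z) ∈ N := by
      have htN : (⟨t, hEZ ht⟩ : Z) ∈ N := by
        rcases hcases e he with rfl | rfl | rfl | rfl
        · exact absurd rfl he1
        · exact heN
        · have := hy' _ _ (hy' _ _ heN)
          simpa [ht₁, hback] using this
        · have := hy' _ _ heN
          simpa [ht₂, ht₁, hback] using this
      intro x hx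
      rcases hcases x hx with rfl | rfl | rfl | rfl
      · exact N.one_mem
      · exact htN
      · exact hy' _ _ htN
      · exact hy' _ _ (hy' _ _ htN)
    -- every involution commutes with an element of `E` or is conjugate to one
    have hdN : (⟨d, hdZ⟩ : Z) ∈ N := by
      have hdd : (⟨d, hdZ⟩ : Z) * ⟨d, hdZ⟩ = 1 := Subtype.ext hd
      by_contra hdn
      obtain ⟨m, hmq⟩ : ∃ m : ℕ, m = orderOf ((⟨d, hdZ⟩ : Z) * ⟨t, hEZ ht⟩) := ⟨_, rfl⟩
      rcases Nat.even_or_odd m with ⟨k, hk⟩ | ⟨k, hk⟩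
      · -- the central involution of the dihedral group commutes with both
        set u : Z := (⟨d, hdZ⟩ : Z) * ⟨t, hEZ ht⟩ with hu
        have hmpos : 0 < m := hmq ▸ orderOf_pos u
        have hw1 : u ^ k ≠ 1 := fun e => by
          have := orderOf_le_of_pow_eq_one (show 0 < k by omega) e
          omega
        have hw2 : u ^ k * u ^ k = 1 := by rw [← pow_add, ← hk, hmq, pow_orderOf_eq_one]
        have htt : (⟨t, hEZ ht⟩ : Z) * ⟨t, hEZ ht⟩ = 1 := Subtype.ext (sqE t ht)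
        have htu : (⟨t, hEZ ht⟩ : Z) * u * ⟨t, hEZ ht⟩ = u⁻¹ := by
          rw [hu, mul_inv_rev, inv_eq_of_mul_eq_one_right hdd, inv_eq_of_mul_eq_one_right htt]
          calc _ = (⟨t, hEZ ht⟩ : Z) * ⟨d, hdZ⟩ * (⟨t, hEZ ht⟩ * ⟨t, hEZ ht⟩) := by group
            _ = _ := by rw [htt]; group
        have htk : (⟨t, hEZ ht⟩ : Z) * u ^ k * ⟨t, hEZ ht⟩ = u ^ k := by
          have := (conj_pow (a := (⟨t, hEZ ht⟩ : Z)) (b := u) (i := k)).symm
          rw [inv_eq_of_mul_eq_one_right htt] at this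
          rw [this, htu, inv_pow, inv_eq_of_mul_eq_one_right hw2]
        have hcomm : u ^ k * (⟨t, hEZ ht⟩ : Z) = ⟨t, hEZ ht⟩ * u ^ k := by
          conv_lhs => rw [← htk, mul_assoc, htt, mul_one]
        have hwE := hcent _ (u ^ k).2 (congrArg Subtype.val hcomm)
        have hdk : (⟨d, hdZ⟩ : Z) * u ^ k = u ^ k * ⟨d, hdZ⟩ := by
          have hd' : (⟨d, hdZ⟩ : Z) = u * ⟨t, hEZ ht⟩ := by rw [hu, mul_assoc, htt, mul_one]
          rw [hd', mul_assoc, ← hcomm, ← mul_assoc, ← mul_assoc, ← pow_succ', pow_succ]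
        exact hdE (hcentE _ hwE (fun e => hw1 (Subtype.ext e)) d hdZ (congrArg Subtype.val hdk))
      · -- conjugate to `t`
        set u : Z := (⟨d, hdZ⟩ : Z) * ⟨t, hEZ ht⟩ with hu
        have htt : (⟨t, hEZ ht⟩ : Z) * ⟨t, hEZ ht⟩ = 1 := Subtype.ext (sqE t ht)
        have hm1 : u ^ (2 * k + 1) = 1 := by rw [← hk, hmq, pow_orderOf_eq_one]
        have htu : (⟨t, hEZ ht⟩ : Z) * u * ⟨t, hEZ ht⟩ = u⁻¹ := by
          rw [hu, mul_inv_rev, inv_eq_of_mul_eq_one_right hdd, inv_eq_of_mul_eq_one_right htt]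
          calc _ = (⟨t, hEZ ht⟩ : Z) * ⟨d, hdZ⟩ * (⟨t, hEZ ht⟩ * ⟨t, hEZ ht⟩) := by group
            _ = _ := by rw [htt]; group
        have hui : (⟨t, hEZ ht⟩ : Z) * (u ^ (k + 1))⁻¹ * ⟨t, hEZ ht⟩ = u ^ (k + 1) := by
          have := (conj_pow (a := (⟨t, hEZ ht⟩ : Z)) (b := u) (i := k + 1)).symm
          rw [inv_eq_of_mul_eq_one_right htt, htu, inv_pow] at this
          rw [← this]
          calc _ = (⟨t, hEZ ht⟩ * ⟨t, hEZ ht⟩ : Z) * u ^ (k + 1) * (⟨t, hEZ ht⟩ * ⟨t, hEZ ht⟩) := by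
                group
            _ = _ := by rw [htt]; group
        have hconj : u ^ (k + 1) * (⟨t, hEZ ht⟩ : Z) * (u ^ (k + 1))⁻¹ = ⟨d, hdZ⟩ := by
          have hd' : (⟨d, hdZ⟩ : Z) = u * ⟨t, hEZ ht⟩ := by rw [hu, mul_assoc, htt, mul_one]
          calc u ^ (k + 1) * (⟨t, hEZ ht⟩ : Z) * (u ^ (k + 1))⁻¹
              = u ^ (k + 1) * ((⟨t, hEZ ht⟩ : Z) * (u ^ (k + 1))⁻¹ * ⟨t, hEZ ht⟩) * ⟨t, hEZ ht⟩ := by
                rw [mul_assoc, mul_assoc, mul_assoc, mul_assoc, htt, mul_one]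
            _ = u * ⟨t, hEZ ht⟩ := by
                rw [hui, ← pow_add, show k + 1 + (k + 1) = (2 * k + 1) + 1 by omega, pow_succ, hm1,
                  one_mul]
            _ = _ := hd'.symm
        exact hdn (hconj ▸ hN.conj_mem _ (hEN t ht) _)
    have hyN : (⟨y, hyZ⟩ : Z) ∈ N := by
      have h1 : (⟨y, hyZ⟩ : Z) * ⟨d, hdZ⟩ * (⟨y, hyZ⟩ : Z)⁻¹ * ⟨d, hdZ⟩ ∈ N :=
        mul_mem (hN.conj_mem _ hdN _) hdN
      have h2 : (⟨y, hyZ⟩ : Z) * ⟨d, hdZ⟩ * (⟨y, hyZ⟩ : Z)⁻¹ * ⟨d, hdZ⟩ = ⟨y, hyZ⟩ * ⟨y, hyZ⟩ :=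
        Subtype.ext (by
          show y * d * y⁻¹ * d = y * y
          have h3 : d * y⁻¹ * d = y := by
            rw [← hdy]; calc d * (d * y * d) * d = (d * d) * y * (d * d) := by group
              _ = y := by rw [hd]; group
          calc y * d * y⁻¹ * d = y * (d * y⁻¹ * d) := by group
            _ = _ := by rw [h3])
      rw [h2] at h1
      have h4 := mul_mem h1 h1
      convert h4 using 1
      refine Subtype.ext ?_
      show y = y * y * (y * y)
      rw [show y * y * (y * y) = y * y * y * y by group, hy0, one_mul]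
    refine eq_top_iff.2 fun x _ => ?_
    have : Z ≤ N.map Z.subtype := by
      refine (closure_le _).2 ?_
      rintro v (hv | hv | hv)
      · exact ⟨⟨v, hEZ hv⟩, hEN v hv, rfl⟩
      · subst hv; exact ⟨_, hyN, rfl⟩
      · rw [Set.mem_singleton_iff] at hv; subst hv; exact ⟨_, hdN, rfl⟩
    obtain ⟨w, hw, e⟩ := this x.2
    rwa [← Subtype.ext e]
  -- recognition
  have : Nontrivial (E.subgroupOf Z) := ⟨⟨⟨tZ, ht⟩, 1, fun e => ht1 (congrArg (fun w : E.subgroupOf Z => ((w : Z) : G)) e)⟩⟩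
  have hK : IsKleinFour (E.subgroupOf Z) := by
    refine ⟨?_, ?_⟩
    · rw [Nat.card_congr (subgroupOfEquivOfLe hEZ).toEquiv, hE]
    · refine Monoid.exponent_eq_prime_iff Nat.prime_two |>.2 ?_
      exact fun g hg => orderOf_eq_prime (by
        refine Subtype.ext (Subtype.ext ?_)
        rw [pow_two]; exact sqE _ g.2) hg
  have htZo : orderOf tZ = 2 :=
    orderOf_eq_prime (Subtype.ext (by rw [pow_two]; exact sqE t ht)) fun e => ht1 (congrArg Subtype.val e)
  have hC : centralizer ({tZ} : Set Z) = E.subgroupOf Z := by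
    ext g
    rw [mem_centralizer_singleton_iff, mem_subgroupOf]
    exact ⟨fun h => hcent _ g.2 (congrArg Subtype.val h), fun h => Subtype.ext (hEab _ h t ht)⟩
  obtain ⟨φ⟩ := CfsgLib.InvChar.klein_centralizer_altFive (G := Z) tZ htZo (E.subgroupOf Z)
    hC.ge hK (by rw [hC, relIndex_self]; norm_num)
    (by rw [hC, subgroupOf_self]; infer_instance)
  -- in `A₅`
  let t1Z : Z := ⟨t₁, hEZ ht₁E⟩
  let dZ : Z := ⟨d, hdZ⟩
  have hinj : ∀ {u v : Z}, φ u = φ v → (u : G) = v := fun h => congrArg Subtype.val (φ.injective h)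
  have hne1 : ∀ {u : Z}, (u : G) ≠ 1 → φ u ≠ 1 := fun hu e => hu (hinj (e.trans φ.map_one.symm))
  have key := alt_five_triangle (φ tZ) (by rw [← map_mul]; convert φ.map_one using 2; exact Subtype.ext (sqE t ht))
    (hne1 ht1) (φ t1Z) (by rw [← map_mul]; convert φ.map_one using 2; exact Subtype.ext (sqE t₁ ht₁E))
    (hne1 (hne ht1)) (fun e => hyt (hinj e))
    (by rw [← map_mul, ← map_mul]; exact congrArg φ (Subtype.ext (hEab t ht t₁ ht₁E)))
    (φ dZ) (by rw [← map_mul]; convert φ.map_one using 2; exact Subtype.ext hd)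
    (hne1 hd1) (fun e => hdE (show d ∈ E by rw [show d = t from hinj e]; exact ht))
    (fun e => hdE (show d ∈ E by rw [show d = t₁ from hinj e]; exact ht₁E))
    (fun e => hdE (by
      rw [← map_mul] at e
      rw [show d = t * t₁ from hinj e]; exact mul_mem ht ht₁E))
  rw [← map_mul, ← map_mul, ← map_mul, ← map_mul, ← map_pow, ← map_pow, ← map_pow] at key
  have fin : ∀ {u : Z}, φ u = 1 → (u : G) = 1 := fun h => hinj (h.trans φ.map_one.symm)
  rcases key with h | h | h
  · exact ⟨t, ht, ht1, fin h⟩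
  · exact ⟨t₁, ht₁E, hne ht1, fin h⟩
  · exact ⟨t * t₁, mul_mem ht ht₁E,
      fun e => hyt (by
        show t₁ = t
        rw [← inv_eq_of_mul_eq_one_right e, inv_eq_of_mul_eq_one_right (sqE t ht)]), fin h⟩

end CfsgLib.InvChar.SuzUniq
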