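import Cfsg.Agent.Lib.InvChar.SuzT.Frame
import Cfsg.Agent.Lib.InvChar.SuzY.Main
import Cfsg.Agent.Lib.InvChar.SuzOrder.Order
import Cfsg.Agent.Lib.KnownA.U4ThreeSchur.Model

/-!
# What the uniqueness proof for Suz needs from the local analysis

The four group `E`, the component `L ≅ L₃(4)` of the centraliser of a second-class involution `t`, the
outer involution `σ`, the element `y` of order three centralising `L`, the map of `C(y)` onto `U₄(3)` as
permutations of 112 points, and the order of the group.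
-/

set_option autoImplicit false

namespace CfsgLib.InvChar.SuzUniq

open Subgroup CfsgLib.InvChar.SuzType CfsgLib.InvChar.SuzT CfsgLib.KnownA.U4ThreeSchur

universe u

/-- The local data. -/
structure UFrame (G : Type u) [Group G] where
  /-- The involution of the first class. -/
  z : G
  /-- The involution of the second class. -/
  t : G
  /-- An involution of `C(t)` outside `C(E)`. -/
  σ : G
  /-- The element of order three. -/
  y : G
  /-- The four group. -/
  E : Subgroup G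
  /-- The component. -/
  L : Subgroup G
  z_ne : z ≠ 1
  z_mem : z ∈ L
  t_mem : t ∈ E
  t_ne : t ≠ 1
  cardE : Nat.card E = 4
  sqE : ∀ e ∈ E, e * e = 1
  comm : ∀ e ∈ E, ∀ l ∈ L, e * l = l * e
  cent_E : ∀ g : G, g ∈ centralizer (E : Set G) ↔ ∃ e ∈ E, ∃ l ∈ L, g = e * l
  cardL : Nat.card L = 20160
  simpleL : IsSimpleGroup L
  selfL : ∀ x ∈ L, orderOf x = 5 ∨ orderOf x = 7 → ∀ g ∈ L, g * x = x * g → g ∈ zpowers x
  normL : ∀ g : G, g * t = t * g → ∀ l ∈ L, g * l * g⁻¹ ∈ L
  σ_sq : σ * σ = 1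
  σ_mem : σ * t = t * σ
  σ_move : ∀ e ∈ E, e ≠ 1 → e ≠ t → σ * e * σ⁻¹ = e * t
  outer : ∀ g : G, g * t = t * g → g ∉ centralizer (E : Set G) →
    ∀ x ∈ L, (orderOf x = 5 ∨ orderOf x = 7) → g * x ≠ x * g
  y_three : y * y * y = 1
  y_ne : y ≠ 1
  y_comm : ∀ l ∈ L, y * l = l * y
  y_norm : ∀ e ∈ E, y * e * y⁻¹ ∈ E
  y_move : y * t * y⁻¹ ≠ t
  /-- The map onto `U₄(3)`. -/
  φ : ↥(centralizer ({y} : Set G)) →* GP
  φ_surj : Function.Surjective φ
  φ_ker : ∀ g : ↥(centralizer ({y} : Set G)), φ g = 1 ↔ (g : G) ∈ zpowers y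
  perfect : Group.IsPerfect ↥(centralizer ({y} : Set G))
  card_G : Nat.card G = 448345497600

/-- A group of Suzuki type has such data. -/
theorem exists_uframe {G : Type u} [Group G] [Finite G] (z : G) (hz : orderOf z = 2)
    (Q : Subgroup (centralizer ({z} : Set G))) [Q.Normal]
    (hF : Cfsg.generalizedFittingSubgroup (centralizer ({z} : Set G)) = Q)
    (hQ : Cfsg.IsExtraspecial 2 Q) (hcard : Nat.card Q = 2 ^ 7)
    (e : (centralizer ({z} : Set G)) ⧸ Q ≃* Cfsg.Omega (ZMod 2) (Cfsg.quadFormMinus 2 (ZMod 2) 1 1))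
    (hnwc : ∃ g : G, (∃ hq : g * z * g⁻¹ ∈ centralizer ({z} : Set G),
      (⟨g * z * g⁻¹, hq⟩ : centralizer ({z} : Set G)) ∈ Q) ∧ g * z * g⁻¹ ≠ z) :
    Nonempty (UFrame G) := by
  classical
  obtain ⟨φ, S⟩ := SuzType.exists_data z hz Q hF hQ hcard e
  obtain ⟨g, ⟨hq, hgQ⟩, hne⟩ := hnwc
  obtain ⟨ψ, ψ', P⟩ := SuzType.exists_pair S
    (show g * z * g⁻¹ ∈ Q.map (centralizer ({z} : Set G)).subtype from ⟨_, hgQ, rfl⟩) hne
  obtain ⟨t, C⟩ := exists_ctx P
  obtain ⟨E, σ, o, M⟩ := exists_mid P C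
  obtain ⟨L, D⟩ := exists_comp P C M
  obtain ⟨d, hd3, hdL, hdE, hdt⟩ := exists_d P C M D
  have hd1 : d ≠ 1 := fun e => hdt (by rw [e]; group)
  have hd0 : d * d * d = 1 := by rw [← pow_three' d]; exact hd3
  obtain ⟨hdC, hd8, hdna⟩ := quat_facts P C M D hd3 hd1 hdL
  have hsub : (Q.map (centralizer ({z} : Set G)).subtype).subgroupOf (centralizer ({z} : Set G)) = Q :=
    comap_map_eq_self_of_injective (subtype_injective _) _
  rw [hsub] at hd8 hdna
  have hY : Nat.card ↥(zpowers (⟨d, hdC⟩ : (centralizer ({z} : Set G) : Subgroup G))) = 3 := by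
    rw [Nat.card_zpowers, Subgroup.orderOf_mk]
    have : Fact (Nat.Prime 3) := ⟨Nat.prime_three⟩
    exact orderOf_eq_prime hd3 hd1
  have : ((zpowers d).subgroupOf (centralizer ({d} : Set G))).Normal := ⟨fun n hn c => by
    rw [mem_subgroupOf] at hn ⊢
    obtain ⟨k, hk⟩ := hn
    have hc : Commute (c : G) d := mem_centralizer_singleton_iff.1 c.2
    rw [Subgroup.coe_mul, Subgroup.coe_mul, InvMemClass.coe_inv, ← hk,
      (hc.zpow_right k).eq, mul_inv_cancel_right]
    exact ⟨k, rfl⟩⟩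
  let K : Type := GaloisField 3 2
  haveI : Fintype K := Fintype.ofFinite K
  have hK : Fintype.card K = 9 := by
    rw [← Nat.card_eq_fintype_card]; exact (GaloisField.card 3 2 two_ne_zero).trans (by norm_num)
  obtain ⟨hqs, ⟨f⟩, -⟩ := SuzY.main z hz Q hF hQ hcard e ⟨g, ⟨hq, hgQ⟩, hne⟩
    (zpowers (⟨d, hdC⟩ : (centralizer ({z} : Set G) : Subgroup G))) hY hd8 hdna (zpowers d)
    (centralizer ({d} : Set G)) (by rw [MonoidHom.map_zpowers]; rfl)
    (by rw [zpowers_eq_closure, centralizer_closure]) K hK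
  obtain ⟨f'⟩ := exists_equiv (F := K) hK
  have hsimple := simple_L P C M D
  have hflag := flag_L P C M D
  have hLc := L_not_comm P C M D
  exact ⟨{
    z := z
    t := t
    σ := σ
    y := d
    E := E
    L := L
    z_ne := P.S.zne
    z_mem := z_mem_L P C M D
    t_mem := M.t_mem
    t_ne := SuzT.t_ne P C
    cardE := M.cardE
    sqE := M.sqE
    comm := D.comm
    cent_E := D.cent_E
    cardL := card_L P C M D
    simpleL := hsimple
    selfL := fun x hx ho g hg h => L_self P C M D hx ho hg h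
    normL := fun g hg => L_normal P C M D hg
    σ_sq := M.σ_sq
    σ_mem := (mem_Xg.1 M.σ_X).2
    σ_move := M.σ_move
    outer := fun g hg hgE x hx ho => outer_cent P C M D hg hgE hx ho
    y_three := hd0
    y_ne := hd1
    y_comm := hdL
    y_norm := hdE
    y_move := hdt
    φ := (f'.symm.toMonoidHom.comp f.toMonoidHom).comp (QuotientGroup.mk' _)
    φ_surj := (f'.symm.surjective.comp f.surjective).comp (QuotientGroup.mk'_surjective _)
    φ_ker := fun x => by
      simp [mem_subgroupOf]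
    perfect := hqs.1
    card_G := SuzOrder.card_eq P C M D }⟩

end CfsgLib.InvChar.SuzUniq
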