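import Cfsg.Agent.Lib.InvChar.SuzUniq.Lift
import Cfsg.Agent.Lib.InvChar.SuzUniq.Four

/-!
# Seven elements satisfying the relations of Suz
-/

set_option autoImplicit false
set_option linter.unusedSectionVars false

namespace CfsgLib.InvChar.SuzUniq

open Subgroup CfsgLib.KnownA.U4ThreeSchur
open scoped commutatorElement

universe u

/-- The relations of the presentation. -/
structure Rel7 {H : Type*} [Monoid H] (a b c d e f g : H) : Prop where
  five : Rel5 a b c f g
  dd : d * d = 1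
  ee : e * e = 1
  da : d * a = a * d
  db : d * b = b * d
  df : d * f = f * d
  dg : d * g = g * d
  ea : e * a = a * e
  eb : e * b = b * e
  ec : e * c = c * e
  ef : e * f = f * e
  eg : e * g = g * e
  cd : (c * d) ^ 4 = a
  de : (d * e) ^ 3 = 1
  we : ((b * c * d * c * d) ^ 5 * e) ^ 3 = 1

variable {G : Type u} [Group G] [Finite G]

/-- Pulling relations back along an injective partial homomorphism. -/
theorem rel5_lift {F : UFrame G} (P : Proj F) {a b c f g : G} (ha : a ∈ F.L) (hb : b ∈ F.L)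
    (hc : c ∈ F.L) (hf : f ∈ F.L) (hg : g ∈ F.L) (ea : P.pv a = a0) (eb : P.pv b = b0)
    (ec : P.pv c = c0) (ef : P.pv f = f0) (eg : P.pv g = g0) : Rel5 a b c f g := by
  have C := fun {x : G} (h : x ∈ F.L) => F.L_le h
  have m2 : ∀ {x y : G}, x ∈ F.L → y ∈ F.L → P.pv (x * y) = P.pv x * P.pv y :=
    fun hx hy => P.mul _ (C hx) _ (C hy)
  have R := rel_std
  have one : (1 : G) ∈ F.L := one_mem _
  constructor
  · exact P.L_inj _ (mul_mem ha ha) (by rw [m2 ha ha, ea, R.aa])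
  · exact P.L_inj _ (mul_mem hb hb) (by rw [m2 hb hb, eb, R.bb])
  · exact P.L_inj _ (mul_mem hc hc) (by rw [m2 hc hc, ec, R.cc])
  · exact P.L_inj _ (mul_mem hf hf) (by rw [m2 hf hf, ef, R.ff])
  · exact P.L_inj _ (mul_mem hg hg) (by rw [m2 hg hg, eg, R.gg])
  · exact fun h => R.a_ne (by rw [← ea, h, P.one])
  · exact fun h => R.ab_ne (by rw [← ea, ← eb, ← m2 ha hb, h, P.one])
  · exact fun h => R.bc_ne (by rw [← eb, ← ec, ← m2 hb hc, h, P.one])
  · exact fun h => R.bf_ne (by rw [← eb, ← ef, ← m2 hb hf, h, P.one])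
  · exact fun h => R.gb_ne (by rw [← eg, ← eb, ← m2 hg hb, h, P.one])
  · exact P.L_inj _ (pow_mem (mul_mem ha hb) _) (by rw [P.pow (C (mul_mem ha hb)), m2 ha hb, ea, eb, R.ab])
  · exact P.L_inj _ (pow_mem (mul_mem hb hc) _) (by rw [P.pow (C (mul_mem hb hc)), m2 hb hc, eb, ec, R.bc])
  · exact P.L_inj _ (pow_mem (mul_mem hb hf) _) (by rw [P.pow (C (mul_mem hb hf)), m2 hb hf, eb, ef, R.bf])
  · exact P.L_inj _ (pow_mem (mul_mem hg hb) _) (by rw [P.pow (C (mul_mem hg hb)), m2 hg hb, eg, eb, R.gb])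
  · exact P.L_inj _ (pow_mem (mul_mem hf hg) _) (by rw [P.pow (C (mul_mem hf hg)), m2 hf hg, ef, eg, R.fg])
  · exact P.L_eq (pow_mem (mul_mem hf hg) _) ha
      (by rw [P.pow (C (mul_mem hf hg)), m2 hf hg, ef, eg, ea, R.fg_sq])
  · exact P.L_eq (mul_mem ha hc) (mul_mem hc ha) (by rw [m2 ha hc, m2 hc ha, ea, ec, R.ac])
  · exact P.L_eq (mul_mem ha hf) (mul_mem hf ha) (by rw [m2 ha hf, m2 hf ha, ea, ef, R.af])
  · exact P.L_eq (mul_mem ha hg) (mul_mem hg ha) (by rw [m2 ha hg, m2 hg ha, ea, eg, R.ag])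
  · exact P.L_eq (mul_mem hc hf) (mul_mem hf hc) (by rw [m2 hc hf, m2 hf hc, ec, ef, R.cf])
  · exact P.L_eq (mul_mem hc hg) (mul_mem hg hc) (by rw [m2 hc hg, m2 hg hc, ec, eg, R.cg])
  · exact P.L_inj _ (pow_mem (mul_mem (mul_mem (mul_mem ha hb) hc) hf) _) (by
      rw [P.pow (C (mul_mem (mul_mem (mul_mem ha hb) hc) hf)), m2 (mul_mem (mul_mem ha hb) hc) hf,
        m2 (mul_mem ha hb) hc, m2 ha hb, ea, eb, ec, ef, R.abcf])
  · exact P.L_inj _ (pow_mem (mul_mem (mul_mem hb hf) hg) _) (by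
      rw [P.pow (C (mul_mem (mul_mem hb hf) hg)), m2 (mul_mem hb hf) hg, m2 hb hf, eb, ef, eg, R.bfg])

/-- `y` is not outside the derived group: no subgroup of index three complements it. -/
theorem no_complement (M : Cert.{u}) (F : UFrame G) (P : Proj F) (T : Lift F P) {a b c f g : G}
    (ha : a ∈ F.L) (hb : b ∈ F.L) (hc : c ∈ F.L) (hf : f ∈ F.L) (hg : g ∈ F.L) (ea : P.pv a = a0)
    (eb : P.pv b = b0) (ec : P.pv c = c0) (ef : P.pv f = f0) (eg : P.pv g = g0)
    (R : Rel5 a b c f g) (da : T.d * a = a * T.d) (db : T.d * b = b * T.d) (df : T.d * f = f * T.d)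
    (dg : T.d * g = g * T.d) (cd : (c * T.d) ^ 4 = a) : (b * c * T.d * c * T.d) ^ 5 ≠ 1 := by
  classical
  intro hw
  obtain ⟨D, hD⟩ : ∃ D, D = closure ({a, b, c, T.d, f, g} : Set G) := ⟨_, rfl⟩
  have hdD : T.d ∈ D := by rw [hD]; exact subset_closure (by simp)
  have hbound : Nat.card D ≤ 6531840 := by
    rw [hD]
    refine (M.index G a b c T.d f g R T.d_sq da db df dg cd hw).trans ?_
    have : closure ({a, b, c, f, g} : Set G) ≤ F.L := (closure_le _).2 (by
      intro x hx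
      rcases hx with rfl | rfl | rfl | rfl | rfl
      exacts [ha, hb, hc, hf, hg])
    have := card_dvd_of_le this
    have h2 : Nat.card (closure ({a, b, c, f, g} : Set G)) ≤ 20160 :=
      Nat.le_of_dvd (by norm_num) (F.cardL ▸ this)
    omega
  -- every element of the model comes from `D`
  have hS : ∀ p ∈ closure ({a0, b0, c0, f0, g0, delta} : Set (Equiv.Perm (Fin 112))),
      ∃ x ∈ D, (x ∈ F.C ∧ P.pv x = p) ∨ (x * T.d ∈ F.C ∧ P.pv (x * T.d) * delta = p) := by
    intro p hp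
    have hgen : ∀ q ∈ ({a0, b0, c0, f0, g0} : Set (Equiv.Perm (Fin 112))),
        ∃ x ∈ D, x ∈ F.C ∧ P.pv x = q := by
      rw [hD]
      intro q hq
      rcases hq with rfl | rfl | rfl | rfl | rfl
      exacts [⟨a, subset_closure (by simp), F.L_le ha, ea⟩, ⟨b, subset_closure (by simp), F.L_le hb, eb⟩,
        ⟨c, subset_closure (by simp), F.L_le hc, ec⟩, ⟨f, subset_closure (by simp), F.L_le hf, ef⟩,
        ⟨g, subset_closure (by simp), F.L_le hg, eg⟩]
    have hleft : ∀ q ∈ ({a0, b0, c0, f0, g0, delta} : Set (Equiv.Perm (Fin 112))), ∀ r,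
        (∃ x ∈ D, (x ∈ F.C ∧ P.pv x = r) ∨ (x * T.d ∈ F.C ∧ P.pv (x * T.d) * delta = r)) →
        ∃ x ∈ D, (x ∈ F.C ∧ P.pv x = q * r) ∨ (x * T.d ∈ F.C ∧ P.pv (x * T.d) * delta = q * r) := by
      rintro q hq r ⟨x, hxD, hx⟩
      by_cases hqd : q = delta
      · subst hqd
        refine ⟨T.d * x, mul_mem hdD hxD, ?_⟩
        rcases hx with ⟨hxC, rfl⟩ | ⟨hxC, rfl⟩
        · obtain ⟨h1, h2⟩ := T.act x hxC
          exact Or.inr ⟨h1, by rw [h2, mul_assoc, M.delta_sq, mul_one]⟩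
        · obtain ⟨h1, h2⟩ := T.act _ hxC
          have e : T.d * (x * T.d) * T.d = T.d * x := by rw [mul_assoc, mul_assoc, T.d_sq, mul_one]
          rw [e] at h1 h2
          exact Or.inl ⟨h1, by rw [h2, mul_assoc]⟩
      · obtain ⟨k, hkD, hkC, rfl⟩ := hgen q (by
          simp only [Set.mem_insert_iff, Set.mem_singleton_iff] at hq ⊢
          tauto)
        refine ⟨k * x, mul_mem hkD hxD, ?_⟩
        rcases hx with ⟨hxC, rfl⟩ | ⟨hxC, rfl⟩
        · exact Or.inl ⟨mul_mem hkC hxC, P.mul _ hkC _ hxC⟩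
        · rw [mul_assoc k x T.d]
          exact Or.inr ⟨mul_mem hkC hxC, by rw [P.mul _ hkC _ hxC, mul_assoc]⟩
    have hinv : ∀ q ∈ ({a0, b0, c0, f0, g0, delta} : Set (Equiv.Perm (Fin 112))), q⁻¹ = q := by
      intro q hq
      rcases hq with rfl | rfl | rfl | rfl | rfl | rfl
      exacts [inv_eq_of_mul_eq_one_right rel_std.aa, inv_eq_of_mul_eq_one_right rel_std.bb,
        inv_eq_of_mul_eq_one_right rel_std.cc, inv_eq_of_mul_eq_one_right rel_std.ff,
        inv_eq_of_mul_eq_one_right rel_std.gg, inv_eq_of_mul_eq_one_right M.delta_sq]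
    induction hp using closure_induction_left with
    | one => exact ⟨1, one_mem _, Or.inl ⟨one_mem _, P.one⟩⟩
    | mul_left q hq r _ ih => exact hleft q hq r ih
    | inv_mul_cancel q hq r _ ih => rw [hinv q hq]; exact hleft q hq r ih
  have honto : ∀ p : GP, ∃ x : ↥(D ⊓ F.C), P.pv x = p := by
    intro p
    obtain ⟨x, hxD, ⟨hxC, e⟩ | ⟨hxC, e⟩⟩ := hS p (M.delta_gen p.2)
    · exact ⟨⟨x, hxD, hxC⟩, e⟩
    · refine absurd ?_ M.delta_not
      have h : delta = (P.pv (x * T.d))⁻¹ * p := by rw [← e, inv_mul_cancel_left]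
      rw [h]
      exact mul_mem (inv_mem (P.mem _ hxC)) p.2
  have hdC : T.d ∉ F.C := fun h => by
    have h1 : T.d * F.y * T.d = F.y := by
      rw [mem_centralizer_singleton_iff.1 h, mul_assoc, T.d_sq, mul_one]
    rw [T.d_inv] at h1
    have h2 : F.y * F.y = 1 := by nth_rewrite 1 [← h1]; rw [inv_mul_cancel]
    have h3 := F.y_three
    rw [h2, one_mul] at h3
    exact F.y_ne h3
  have hhalf : 2 * Nat.card ↥(D ⊓ F.C) ≤ Nat.card D := by
    let j : Bool × ↥(D ⊓ F.C) → D := fun q =>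
      ⟨(if q.1 then T.d else 1) * (q.2 : G), mul_mem (by split_ifs; exacts [hdD, one_mem _]) q.2.2.1⟩
    have hj : Function.Injective j := by
      rintro ⟨i, x⟩ ⟨k, x'⟩ h
      have h' : (if i then T.d else 1) * (x : G) = (if k then T.d else 1) * (x' : G) := congrArg Subtype.val h
      cases i <;> cases k <;> simp at h'
      · exact Prod.ext rfl h'
      · refine absurd ?_ hdC
        have := mul_mem (show (x : G) ∈ F.C from x.2.2) (inv_mem (show (x' : G) ∈ F.C from x'.2.2))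
        rwa [h', mul_inv_cancel_right] at this
      · refine absurd ?_ hdC
        have := mul_mem (show (x' : G) ∈ F.C from x'.2.2) (inv_mem (show (x : G) ∈ F.C from x.2.2))
        rwa [← h', mul_inv_cancel_right] at this
      · exact Prod.ext rfl h'
    have := Nat.card_le_card_of_injective j hj
    rwa [Nat.card_prod, Nat.card_eq_fintype_card (α := Bool), Fintype.card_bool] at this
  choose sec hsec using honto
  have hsinj : Function.Injective sec := fun p q h => Subtype.ext (by rw [← hsec p, ← hsec q, h])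
  have hsurj : Function.Surjective sec := by
    refine ((Nat.bijective_iff_injective_and_card sec).2 ⟨hsinj, ?_⟩).surjective
    have h1 := Nat.card_le_card_of_injective sec hsinj
    rw [CfsgLib.U43.model_facts.1] at h1 ⊢
    omega
  have hint : ∀ x ∈ D ⊓ F.C, x ∈ zpowers F.y → x = 1 := by
    intro x hx hy
    obtain ⟨p, hp⟩ := hsurj ⟨x, hx⟩
    obtain ⟨q, hq⟩ := hsurj 1
    have e1 := hsec p
    rw [hp] at e1
    have e2 := hsec q
    rw [hq] at e2
    have hx1 : P.pv x = 1 := (P.ker x hx.2).2 hy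
    have : p = q := Subtype.ext (by rw [← e1, ← e2, OneMemClass.coe_one, P.one]; exact hx1)
    rw [this, hq] at hp
    exact (congrArg Subtype.val hp).symm
  -- so the centraliser is not perfect
  let K : Subgroup ↥F.C := (D ⊓ F.C).subgroupOf F.C
  have hKC : ∀ v : ↥F.C, ∃ k ∈ K, ∃ w : ↥F.C, (w : G) ∈ zpowers F.y ∧ v = k * w := by
    intro v
    refine ⟨⟨sec ⟨P.pv v, P.mem _ v.2⟩, (sec _).2.2⟩, mem_subgroupOf.2 (sec _).2,
      ⟨((sec ⟨P.pv v, P.mem _ v.2⟩ : ↥(D ⊓ F.C)) : G)⁻¹ * v, mul_mem (inv_mem (sec _).2.2) v.2⟩,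
      P.eq_mod (sec _).2.2 v.2 (hsec ⟨P.pv v, P.mem _ v.2⟩), Subtype.ext ?_⟩
    simp
  have hle : ⁅(⊤ : Subgroup ↥F.C), ⊤⁆ ≤ K := by
    rw [commutator_le]
    intro v _ v' _
    obtain ⟨k, hk, w, hwY, rfl⟩ := hKC v
    obtain ⟨k', hk', w', hwY', rfl⟩ := hKC v'
    have hcen : ∀ w : ↥F.C, (w : G) ∈ zpowers F.y → ∀ q : ↥F.C, w * q = q * w := by
      rintro w ⟨n, hn⟩ q
      refine Subtype.ext ?_
      show (w : G) * q = q * w
      rw [← hn]
      exact ((show Commute F.y (q : G) from (mem_centralizer_singleton_iff.1 q.2).symm).zpow_left n).eq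
    have e : ⁅k * w, k' * w'⁆ = ⁅k, k'⁆ := by
      simp only [commutatorElement_def, mul_inv_rev]
      calc k * w * (k' * w') * (w⁻¹ * k⁻¹) * (w'⁻¹ * k'⁻¹)
          = k * (w * (k' * w')) * w⁻¹ * k⁻¹ * (w'⁻¹ * k'⁻¹) := by group
        _ = k * (k' * w') * k⁻¹ * (w'⁻¹ * k'⁻¹) := by rw [hcen w hwY]; group
        _ = k * k' * (w' * k⁻¹) * (w'⁻¹ * k'⁻¹) := by group
        _ = k * k' * k⁻¹ * k'⁻¹ := by rw [hcen w' hwY']; group
    rw [e]
    exact mul_mem (mul_mem (mul_mem hk hk') (inv_mem hk)) (inv_mem hk')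
  have hy : (⟨F.y, F.y_mem⟩ : ↥F.C) ∈ ⁅(⊤ : Subgroup ↥F.C), (⊤ : Subgroup ↥F.C)⁆ := by
    have := F.perfect.commutator_eq_top
    rw [_root_.commutator_def] at this
    rw [this]
    trivial
  exact F.y_ne (hint _ (mem_subgroupOf.1 (hle hy)) (mem_zpowers _))

/-- Seven such elements. -/
theorem exists_gens (M : Cert.{u}) (F : UFrame G) : ∃ a b c d e f g : G, Rel7 a b c d e f g := by
  obtain ⟨P⟩ := exists_proj M F
  obtain ⟨T⟩ := exists_lift M F P
  have hstd : ∀ x ∈ ({a0, b0, c0, f0, g0} : Set (Equiv.Perm (Fin 112))), x ∈ Lstd :=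
    fun x hx => subset_closure hx
  obtain ⟨a, ha, ea⟩ := P.L_surj a0 (hstd _ (by simp))
  obtain ⟨b, hb, eb⟩ := P.L_surj b0 (hstd _ (by simp))
  obtain ⟨c, hc, ec⟩ := P.L_surj c0 (hstd _ (by simp))
  obtain ⟨f, hf, ef⟩ := P.L_surj f0 (hstd _ (by simp))
  obtain ⟨g, hg, eg⟩ := P.L_surj g0 (hstd _ (by simp))
  have R := rel5_lift P ha hb hc hf hg ea eb ec ef eg
  have hdi : T.d⁻¹ = T.d := inv_eq_of_mul_eq_one_right T.d_sq
  have hdel : delta⁻¹ = delta := inv_eq_of_mul_eq_one_right M.delta_sq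
  -- a commuting pair in the image lifts
  have hsmall : ∀ {u : G}, u ∈ zpowers F.y → u * u = 1 → u = 1 := by
    rintro _ ⟨n, rfl⟩ hu
    have h3 : (F.y ^ n) ^ 3 = 1 := by
      rw [← zpow_natCast, ← zpow_mul, mul_comm, zpow_mul, zpow_natCast, pow_succ, pow_two, F.y_three,
        one_zpow]
    rwa [pow_succ, pow_two, hu, one_mul] at h3
  have hcomm : ∀ {x : G}, x ∈ F.L → x * x = 1 → delta * P.pv x = P.pv x * delta → T.d * x = x * T.d := by
    intro x hx hxx he
    obtain ⟨h1, h2⟩ := T.act x (F.L_le hx)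
    rw [he, mul_assoc (P.pv x), M.delta_sq, mul_one] at h2
    have h3 := P.eq_mod (F.L_le hx) h1 h2.symm
    have hxy : Commute F.y x := F.y_comm x hx
    obtain ⟨n, hn⟩ := h3
    have hu : F.y ^ n = 1 := by
      refine hsmall (zpow_mem (mem_zpowers _) n) ?_
      have h4 : T.d * x * T.d = x * F.y ^ n := by
        rw [show F.y ^ n = x⁻¹ * (T.d * x * T.d) from hn, mul_inv_cancel_left]
      have h5 : T.d * x * T.d * (T.d * x * T.d) = 1 := by
        calc _ = T.d * x * (T.d * T.d) * x * T.d := by group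
          _ = T.d * (x * x) * T.d := by rw [T.d_sq]; group
          _ = 1 := by rw [hxx, mul_one, T.d_sq]
      rw [h4, mul_assoc, ← mul_assoc (F.y ^ n) x, (hxy.zpow_left n).eq, mul_assoc, ← mul_assoc, hxx,
        one_mul] at h5
      exact h5
    rw [show F.y ^ n = x⁻¹ * (T.d * x * T.d) from hn, inv_mul_eq_one] at hu
    calc T.d * x = T.d * x * T.d * T.d := by rw [mul_assoc _ T.d T.d, T.d_sq, mul_one]
      _ = x * T.d := by rw [← hu]
  have da := hcomm ha R.aa (by rw [ea, M.delta_a])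
  have db := hcomm hb R.bb (by rw [eb, M.delta_b])
  have df := hcomm hf R.ff (by rw [ef, M.delta_f])
  have dg := hcomm hg R.gg (by rw [eg, M.delta_g])
  have hcC := F.L_le hc
  obtain ⟨hq1, hq2⟩ := T.act c hcC
  obtain ⟨q, hqdef⟩ : ∃ q, q = c * (T.d * c * T.d) * (c * (T.d * c * T.d)) := ⟨_, rfl⟩
  have hcd4 : (c * T.d) ^ 4 = q := by rw [hqdef]; simp only [pow_succ, pow_zero, one_mul, mul_assoc]
  have hqC : q ∈ F.C := by rw [hqdef]; exact mul_mem (mul_mem hcC hq1) (mul_mem hcC hq1)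
  have hqv : P.pv q = a0 := by
    rw [hqdef, P.mul _ (mul_mem hcC hq1) _ (mul_mem hcC hq1), P.mul _ hcC _ hq1, hq2, ec, ← M.delta_cd]
    simp only [pow_succ, pow_zero, one_mul, mul_assoc]
  have cd : (c * T.d) ^ 4 = a := by
    obtain ⟨n, hn⟩ := P.eq_mod (F.L_le ha) hqC (by rw [hqv, ea])
    have hq : q = a * F.y ^ n := by
      rw [show F.y ^ n = a⁻¹ * q from hn, mul_inv_cancel_left]
    have hci : c⁻¹ = c := inv_eq_of_mul_eq_one_right R.cc
    have hflip : c * q * c = q⁻¹ := by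
      rw [hqdef]
      simp only [mul_inv_rev, hdi, hci, mul_assoc]
      calc c * (c * (T.d * (c * (T.d * (c * (T.d * (c * (T.d * c))))))))
          = (c * c) * (T.d * (c * (T.d * (c * (T.d * (c * (T.d * c))))))) := by group
        _ = _ := by rw [R.cc, one_mul]
    have hac : a * c = c * a := R.ac
    have hyc : Commute (F.y ^ n) c := (show Commute F.y c from F.y_comm c hc).zpow_left n
    have hya : Commute (F.y ^ n) a := (show Commute F.y a from F.y_comm a ha).zpow_left n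
    have h1 : c * q * c = q := by
      rw [hq, ← mul_assoc, ← hac, mul_assoc (a * c), hyc.eq, ← mul_assoc, mul_assoc a c c, R.cc, mul_one]
    rw [h1] at hflip
    have hqq : q * q = 1 := by nth_rewrite 1 [hflip]; rw [inv_mul_cancel]
    have hu : F.y ^ n = 1 := hsmall (zpow_mem (mem_zpowers _) n) (by
      rw [hq, mul_assoc, ← mul_assoc (F.y ^ n) a, hya.eq, mul_assoc, ← mul_assoc, R.aa, one_mul] at hqq
      exact hqq)
    rw [hcd4, hq, hu, mul_one]
  -- the element of order five of the alternating group of degree six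
  obtain ⟨x, hxdef⟩ : ∃ x, x = b * f * g := ⟨_, rfl⟩
  have hxL : x ∈ F.L := by rw [hxdef]; exact mul_mem (mul_mem hb hf) hg
  have : Fact (Nat.Prime 5) := ⟨by norm_num⟩
  have hx5 : orderOf x = 5 := by
    refine orderOf_eq_prime (by rw [hxdef]; exact R.bfg) fun h => ?_
    rw [hxdef, mul_assoc, mul_eq_one_iff_eq_inv] at h
    have := R.bb
    rw [h, ← mul_inv_rev, inv_eq_one, ← pow_two, R.fg_sq] at this
    exact R.a_ne this
  have hKfix : ∀ l ∈ F.L, l * a = a * l → l * b = b * l → l * f = f * l → l * g = g * l → l = 1 := by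
    intro l hl la lb lf lg
    have lx : l * x = x * l := by
      rw [hxdef]
      exact ((show Commute l b from lb).mul_right lf |>.mul_right lg).eq
    have hlz := F.selfL x hxL (Or.inl hx5) l hl lx
    by_contra hl1
    have hgen : zpowers l = zpowers x := by
      refine eq_of_le_of_card_ge (zpowers_le.2 hlz) ?_
      rw [Nat.card_zpowers, Nat.card_zpowers, hx5]
      have hd : orderOf l ∣ 5 := hx5 ▸ orderOf_dvd_of_mem_zpowers hlz
      rcases (Nat.dvd_prime (by norm_num : Nat.Prime 5)).1 hd with h | h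
      · exact absurd (orderOf_eq_one_iff.1 h) hl1
      · omega
    obtain ⟨k, hk⟩ : x ∈ zpowers l := hgen ▸ mem_zpowers x
    have hxa : a * x = x * a := by
      rw [← hk]
      exact ((show Commute l a from la).zpow_left k).symm.eq
    have haz := F.selfL x hxL (Or.inl hx5) a ha hxa
    have hd : orderOf a ∣ 5 := hx5 ▸ orderOf_dvd_of_mem_zpowers haz
    have h2 : orderOf a ∣ 2 := orderOf_dvd_of_pow_eq_one (by rw [pow_two, R.aa])
    have := Nat.dvd_gcd hd h2
    norm_num at this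
    exact R.a_ne this
  have hdE : T.d ∉ F.E := fun h => R.a_ne (by
    have : (c * T.d) ^ 4 = 1 := by
      rw [(show Commute c T.d from (F.comm _ h c hc).symm).mul_pow]
      simp only [pow_succ, pow_zero, one_mul, mul_one, mul_assoc, R.cc, T.d_sq]
    rw [← cd, this])
  have hZ : ∀ v ∈ closure ((F.E : Set G) ∪ {F.y, T.d}), v * F.t = F.t * v → v ∈ F.E := by
    intro v hv hvt
    have hv' : ∀ w ∈ ({a, b, f, g} : Set G), v * w = w * v := by
      intro w hw
      have hmem : v ∈ centralizer ({w} : Set G) := by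
        refine (closure_le _).2 ?_ hv
        intro r hr
        refine mem_centralizer_singleton_iff.2 ?_
        rcases hr with hr | rfl | rfl
        · rcases hw with rfl | rfl | rfl | rfl
          exacts [F.comm r hr _ ha, F.comm r hr _ hb, F.comm r hr _ hf, F.comm r hr _ hg]
        · rcases hw with rfl | rfl | rfl | rfl
          exacts [F.y_comm _ ha, F.y_comm _ hb, F.y_comm _ hf, F.y_comm _ hg]
        · rcases hw with rfl | rfl | rfl | rfl
          exacts [da, db, df, dg]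
      exact mem_centralizer_singleton_iff.1 hmem
    by_cases hvE : v ∈ centralizer (F.E : Set G)
    · obtain ⟨e, he, l, hl, rfl⟩ := (F.cent_E v).1 hvE
      have hl' : ∀ w ∈ ({a, b, f, g} : Set G), w ∈ F.L → l * w = w * l := fun w hw hwL =>
        mul_left_cancel (a := e) (by
          rw [← mul_assoc, hv' w hw, ← mul_assoc, ← mul_assoc, F.comm e he w hwL])
      rw [hKfix l hl (hl' a (by simp) ha) (hl' b (by simp) hb) (hl' f (by simp) hf)
        (hl' g (by simp) hg), mul_one]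
      exact he
    · exfalso
      refine F.outer v hvt hvE x hxL (Or.inl hx5) ?_
      rw [hxdef]
      exact ((show Commute v b from hv' b (by simp)).mul_right (hv' f (by simp)) |>.mul_right
        (hv' g (by simp))).eq
  obtain ⟨e, he, he1, hde⟩ := exists_triangle F.cardE F.sqE F.t_mem F.t_ne
    (show F.y ^ 3 = 1 by rw [pow_succ, pow_two, F.y_three]) F.y_norm F.y_move T.d_sq T.d_inv hdE hZ
  obtain ⟨W, hWdef⟩ : ∃ W, W = b * c * T.d * c * T.d := ⟨_, rfl⟩
  have hWe : W = b * c * (T.d * c * T.d) := by rw [hWdef]; group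
  have hWC : W ∈ F.C := by rw [hWe]; exact mul_mem (mul_mem (F.L_le hb) hcC) hq1
  have hW5 : W ^ 5 ∈ zpowers F.y := by
    rw [← P.ker _ (pow_mem hWC 5), P.pow hWC, hWe, P.mul _ (mul_mem (F.L_le hb) hcC) _ hq1,
      P.mul _ (F.L_le hb) _ hcC, eb, ec, hq2, ec]
    rw [show b0 * c0 * (delta * c0 * delta) = b0 * c0 * delta * c0 * delta by group]
    exact M.delta_w
  have hW1 : W ^ 5 ≠ 1 := by
    rw [hWdef]
    exact no_complement M F P T ha hb hc hf hg ea eb ec ef eg R da db df dg cd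
  obtain ⟨u, hu⟩ : ∃ u, u = W ^ 5 := ⟨_, rfl⟩
  rw [← hu] at hW5 hW1
  have hu3 : u * u * u = 1 := by
    obtain ⟨n, rfl⟩ := hW5
    rw [← zpow_add, ← zpow_add, show n + n + n = (3 : ℕ) * n by omega, zpow_mul, zpow_natCast,
      pow_succ, pow_two, F.y_three, one_zpow]
  have hufix : u * e ≠ e * u := fun h => by
    obtain ⟨k, hk⟩ : F.y ∈ zpowers u := by
      have : Fact (Nat.Prime 3) := ⟨Nat.prime_three⟩
      have hy : orderOf F.y = 3 := orderOf_eq_prime (by rw [pow_succ, pow_two, F.y_three]) F.y_ne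
      have hu' : orderOf u = 3 := orderOf_eq_prime (by rw [pow_succ, pow_two, hu3]) hW1
      have : zpowers u = zpowers F.y :=
        eq_of_le_of_card_ge (zpowers_le.2 hW5) (by rw [Nat.card_zpowers, Nat.card_zpowers, hy, hu'])
      rw [this]; exact mem_zpowers _
    refine he1 (F.y_fix he ?_)
    rw [← hk]
    exact ((show Commute u e from h).zpow_left k).eq
  have hue : ∀ {v : G}, v ∈ F.E → u * v * u⁻¹ ∈ F.E := by
    intro v hv
    obtain ⟨n, rfl⟩ := hW5
    have hn : F.y ^ n ∈ normalizer (F.E : Set G) := by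
      refine zpow_mem (mem_normalizer_iff.2 fun w => ⟨fun hw => F.y_norm w hw, fun hw => ?_⟩) n
      have := F.y_norm _ (F.y_norm _ hw)
      rwa [show F.y * (F.y * (F.y * w * F.y⁻¹) * F.y⁻¹) * F.y⁻¹
          = F.y * F.y * F.y * w * (F.y * F.y * F.y)⁻¹ by group, F.y_three, one_mul, inv_one, mul_one] at this
    exact (mem_normalizer_iff.1 hn v).1 hv
  have we : (u * e) ^ 3 = 1 := by
    obtain ⟨e₁, he₁d⟩ : ∃ e₁, e₁ = u * e * u⁻¹ := ⟨_, rfl⟩
    obtain ⟨e₂, he₂d⟩ : ∃ e₂, e₂ = u * e₁ * u⁻¹ := ⟨_, rfl⟩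
    have h1 : e₁ ∈ F.E := he₁d ▸ hue he
    have h2 : e₂ ∈ F.E := he₂d ▸ hue h1
    have n10 : e₁ ≠ e := fun h => hufix (by rw [he₁d] at h; exact mul_inv_eq_iff_eq_mul.1 h)
    have n21 : e₂ ≠ e₁ := fun h => n10 (by
      rw [he₂d] at h; nth_rewrite 2 [he₁d] at h; exact mul_left_cancel (mul_right_cancel h))
    have h03 : u * e₂ * u⁻¹ = e := by
      rw [he₂d, he₁d, show u * (u * (u * e * u⁻¹) * u⁻¹) * u⁻¹ = u * u * u * e * (u * u * u)⁻¹ by group,
        hu3, one_mul, inv_one, mul_one]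
    have n20 : e₂ ≠ e := fun h => n10 (by rw [h] at h03; rw [he₁d]; exact h03)
    have n11 : e₁ ≠ 1 := fun h => he1 (by rw [he₁d] at h; exact conj_eq_one_iff.1 h)
    have key : e₂ = e * e₁ := by
      rcases F.E_cases he h1 he1 n11 n10.symm h2 with h | h | h | h
      · exact absurd (conj_eq_one_iff.1 (he₂d ▸ h)) n11
      · exact absurd h n20
      · exact absurd h n21
      · exact h
    calc (u * e) ^ 3 = u * e * (u * e) * (u * e) := by rw [pow_succ, pow_two]
      _ = (u * e * u⁻¹) * (u * (u * e * u⁻¹) * u⁻¹) * (u * u * u) * e := by group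
      _ = e₁ * (u * e₁ * u⁻¹) * e := by rw [hu3, ← he₁d, mul_one]
      _ = e₁ * (e * e₁) * e := by rw [← he₂d, key]
      _ = e₁ * (e₁ * e) * e := by rw [F.E_comm he h1]
      _ = (e₁ * e₁) * (e * e) := by group
      _ = 1 := by rw [F.sqE _ h1, F.sqE _ he, mul_one]
  exact ⟨a, b, c, T.d, e, f, g, {
    five := R, dd := T.d_sq, ee := F.sqE e he, da := da, db := db, df := df, dg := dg
    ea := F.comm e he a ha, eb := F.comm e he b hb, ec := F.comm e he c hc
    ef := F.comm e he f hf, eg := F.comm e he g hg, cd := cd, de := hde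
    we := by rw [← hWdef, ← hu]; exact we }⟩

end CfsgLib.InvChar.SuzUniq
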