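import Cfsg.Agent.Lib.InvChar.SuzUniq.Gens
import Cfsg.Agent.Lib.InvChar.SporSuzSimple

/-!
# Seven such elements generate a copy of Suz
-/

set_option autoImplicit false

namespace CfsgLib.InvChar.SuzUniq

open Cfsg.Spor

universe u

variable {G : Type u} [Group G]

theorem exists_suz_hom {a b c d e f g : G} (R : Rel7 a b c d e f g) :
    ∃ φ : Suz →* G, φ (PresentedGroup.of Suz.Gen.a) = a := by
  have five := R.five
  let v : Suz.Gen → G := fun x => match x with
    | .a => a | .b => b | .c => c | .d => d | .e => e | .f => f | .g => g
  have hsq : ∀ {x y : G}, x * x = 1 → y * y = 1 → x * y = y * x → (x * y) ^ 2 = 1 := fun hx hy h => by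
    rw [(show Commute _ _ from h).mul_pow, pow_two, pow_two, hx, hy, one_mul]
  have hrev : ∀ {x y : G} {n : ℕ}, x * x = 1 → y * y = 1 → (x * y) ^ n = 1 → (y * x) ^ n = 1 :=
    fun hx hy h => by
      rw [show ∀ p q : G, p * q = (q⁻¹ * p⁻¹)⁻¹ from fun p q => by group,
        inv_eq_of_mul_eq_one_right hx, inv_eq_of_mul_eq_one_right hy, inv_pow, h, inv_one]
  have cd8 : (c * d) ^ 8 = 1 := by
    rw [show 8 = 4 * 2 from rfl, pow_mul, R.cd, pow_two, five.aa]
  refine ⟨PresentedGroup.toGroup (f := v) ?_, by rw [PresentedGroup.toGroup.of]⟩
  rintro r (⟨x, -, y, -, rfl⟩ | hr)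
  · rw [map_pow, map_mul, FreeGroup.lift_apply_of, FreeGroup.lift_apply_of]
    cases x <;> cases y <;>
      simp only [coxLabel, Suz.edges, v, reduceCtorEq, if_false, if_true, List.find?, decide_true,
        decide_false, false_and, and_false, and_self, or_self, false_or, or_false, true_and, and_true,
        pow_one] <;>
      first
        | exact five.aa | exact five.bb | exact five.cc | exact R.dd | exact R.ee | exact five.ff
        | exact five.gg
        | exact five.ab | exact hrev five.aa five.bb five.ab
        | exact five.bc | exact hrev five.bb five.cc five.bc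
        | exact cd8 | exact hrev five.cc R.dd cd8
        | exact R.de | exact hrev R.dd R.ee R.de
        | exact five.bf | exact hrev five.bb five.ff five.bf
        | exact five.fg | exact hrev five.ff five.gg five.fg
        | exact five.gb | exact hrev five.gg five.bb five.gb
        | exact hsq five.aa five.cc five.ac | exact hsq five.cc five.aa five.ac.symm
        | exact hsq R.dd five.aa R.da | exact hsq five.aa R.dd R.da.symm
        | exact hsq R.ee five.aa R.ea | exact hsq five.aa R.ee R.ea.symm
        | exact hsq five.aa five.ff five.af | exact hsq five.ff five.aa five.af.symm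
        | exact hsq five.aa five.gg five.ag | exact hsq five.gg five.aa five.ag.symm
        | exact hsq R.dd five.bb R.db | exact hsq five.bb R.dd R.db.symm
        | exact hsq R.ee five.bb R.eb | exact hsq five.bb R.ee R.eb.symm
        | exact hsq R.ee five.cc R.ec | exact hsq five.cc R.ee R.ec.symm
        | exact hsq five.cc five.ff five.cf | exact hsq five.ff five.cc five.cf.symm
        | exact hsq five.cc five.gg five.cg | exact hsq five.gg five.cc five.cg.symm
        | exact hsq R.dd five.ff R.df | exact hsq five.ff R.dd R.df.symm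
        | exact hsq R.dd five.gg R.dg | exact hsq five.gg R.dd R.dg.symm
        | exact hsq R.ee five.ff R.ef | exact hsq five.ff R.ee R.ef.symm
        | exact hsq R.ee five.gg R.eg | exact hsq five.gg R.ee R.eg.symm
  · simp only [Suz.extra, Set.mem_setOf_eq, List.mem_cons, List.not_mem_nil, or_false] at hr
    rcases hr with rfl | rfl | rfl | rfl | rfl <;>
      simp only [map_mul, map_pow, map_inv, Suz.a, Suz.b, Suz.c, Suz.d, Suz.e, Suz.f, Suz.g,
        FreeGroup.lift_apply_of, v]
    · rw [R.cd, mul_inv_cancel]
    · rw [five.fg_sq, mul_inv_cancel]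
    · exact five.abcf
    · exact five.bfg
    · exact R.we

/-- A group of order 448345497600 with such elements is Suz. -/
theorem iso_of_rel7 [Finite G] {a b c d e f g : G} (R : Rel7 a b c d e f g)
    (hG : Nat.card G = 448345497600) : IsoSuz G := by
  obtain ⟨φ, hφ⟩ := exists_suz_hom R
  have := CfsgLib.InvChar.SporSuz.isSimpleGroup
  have hinj : Function.Injective φ := by
    rcases (inferInstance : φ.ker.Normal).eq_bot_or_eq_top with h | h
    · exact (MonoidHom.ker_eq_bot_iff φ).1 h
    · refine absurd ?_ R.five.a_ne
      rw [← hφ]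
      exact MonoidHom.mem_ker.1 (h ▸ Subgroup.mem_top _)
  have hb : Function.Bijective φ := (Nat.bijective_iff_injective_and_card φ).2
    ⟨hinj, by rw [CfsgLib.InvChar.SporSuz.card_eq.1, hG]⟩
  exact ⟨(MulEquiv.ofBijective φ hb).symm⟩

/-- Uniqueness from the local data and the model facts. -/
theorem iso_of_uframe [Finite G] (M : Cert.{u}) (F : UFrame G) : IsoSuz G := by
  obtain ⟨a, b, c, d, e, f, g, R⟩ := exists_gens M F
  exact iso_of_rel7 R F.card_G

end CfsgLib.InvChar.SuzUniq
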