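import Cfsg.Agent.Lib.InvChar.SuzUniq.Sigma

/-!
# The lift of the outer involution of `U₄(3)`
-/

set_option autoImplicit false
set_option linter.unusedSectionVars false

namespace CfsgLib.InvChar.SuzUniq

open Subgroup CfsgLib.KnownA.U4ThreeSchur

universe u

/-- The 112 points, to carry a twisted action. -/
def TPt : Type := Fin 112

instance : Finite TPt := inferInstanceAs (Finite (Fin 112))

/-- An automorphism of the model is induced by a permutation of the points. -/
theorem exists_perm (α : GP →* GP) (hα : Function.Surjective α) :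
    ∃ π : Equiv.Perm (Fin 112), ∀ s : GP, π * (s : Equiv.Perm (Fin 112)) * π⁻¹ = α s := by
  letI : MulAction GP TPt :=
    { smul := fun s (i : Fin 112) => (α s : Equiv.Perm (Fin 112)) i
      one_smul := fun i => by
        show (α 1 : Equiv.Perm (Fin 112)) i = i
        rw [map_one]; rfl
      mul_smul := fun s r i => by
        show (α (s * r) : Equiv.Perm (Fin 112)) i = (α s : Equiv.Perm (Fin 112)) ((α r : Equiv.Perm (Fin 112)) i)
        rw [map_mul]; rfl }
  let b : TPt := (⟨0, by norm_num⟩ : Fin 112)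
  have hb : MulAction.orbit GP b = Set.univ := Set.eq_univ_of_forall fun i => by
    obtain ⟨σ, hσ, e⟩ := CfsgLib.Recog.McL275.GP_trans i
    obtain ⟨r, hr⟩ := hα ⟨σ, hσ⟩
    refine ⟨r, ?_⟩
    show (α r : Equiv.Perm (Fin 112)) p0 = i
    rw [hr]
    exact e
  have hn : (MulAction.orbit GP b).ncard = 112 := by
    rw [hb, Set.ncard_univ, show Nat.card TPt = Nat.card (Fin 112) from rfl, Nat.card_fin]
  obtain ⟨φ, hinj, -, heq⟩ := CfsgLib.Recog.McL275.exists_natural b hn
  let π : Equiv.Perm (Fin 112) :=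
    Equiv.ofBijective (fun i => (φ i : Fin 112)) (Finite.injective_iff_bijective.1 hinj)
  refine ⟨π, fun s => Equiv.ext fun i => ?_⟩
  obtain ⟨j, rfl⟩ : ∃ j, π j = i := π.surjective i
  simp only [Equiv.Perm.mul_apply, Equiv.Perm.coe_inv, Equiv.symm_apply_apply]
  exact heq s j

variable {G : Type u} [Group G] [Finite G]

/-- The lift of the outer involution. -/
structure Lift (F : UFrame G) (P : Proj F) where
  /-- The involution. -/
  d : G
  d_sq : d * d = 1
  d_inv : d * F.y * d = F.y⁻¹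
  act : ∀ g ∈ F.C, d * g * d ∈ F.C ∧ P.pv (d * g * d) = delta * P.pv g * delta

theorem exists_lift (M : Cert.{u}) (F : UFrame G) (P : Proj F) : Nonempty (Lift F P) := by
  classical
  obtain ⟨s, hs2, hsy, hst, hsE⟩ := F.exists_sigma
  have hsi : s⁻¹ = s := inv_eq_of_mul_eq_one_right hs2
  have hsC : ∀ g ∈ F.C, s * g * s⁻¹ ∈ F.C := fun g hg => by
    refine mem_centralizer_singleton_iff.2 ?_
    have h : Commute g F.y := mem_centralizer_singleton_iff.1 hg
    have h' := h.inv_right.eq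
    rw [← hsy] at h'
    calc s * g * s⁻¹ * F.y = s * g * s⁻¹ * F.y := rfl
      _ = s * (g * (s⁻¹ * F.y * s)) * s⁻¹ := by group
      _ = s * ((s⁻¹ * F.y * s) * g) * s⁻¹ := by
        have e : s⁻¹ * F.y * s = s * F.y * s⁻¹ := by rw [hsi]
        rw [e, h']
      _ = F.y * (s * g * s⁻¹) := by group
  let ψ : ↥F.C →* GP :=
    { toFun := fun g => ⟨P.pv g, P.mem g g.2⟩
      map_one' := Subtype.ext P.one
      map_mul' := fun g h => Subtype.ext (P.mul g g.2 h h.2) }
  let θ : ↥F.C →* GP :=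
    { toFun := fun g => ⟨P.pv (s * g * s⁻¹), P.mem _ (hsC g g.2)⟩
      map_one' := Subtype.ext (by simp [P.one])
      map_mul' := fun g h => Subtype.ext (by
        show P.pv (s * (g * h : G) * s⁻¹) = P.pv (s * g * s⁻¹) * P.pv (s * h * s⁻¹)
        rw [← P.mul _ (hsC g g.2) _ (hsC h h.2)]
        congr 1
        group) }
  have hψ : Function.Surjective ψ := fun r => by
    obtain ⟨g, hg, e⟩ := P.surj r r.2
    exact ⟨⟨g, hg⟩, Subtype.ext e⟩
  have hker : ψ.ker ≤ θ.ker := by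
    intro g hg
    obtain ⟨k, hk⟩ := (P.ker g g.2).1 (congrArg Subtype.val hg)
    refine Subtype.ext ((P.ker _ (hsC g g.2)).2 ?_)
    rw [← hk, ← conj_zpow, hsy]
    exact zpow_mem (inv_mem (mem_zpowers F.y)) k
  let α : GP →* GP := MonoidHom.liftOfRightInverse ψ _ (Function.rightInverse_surjInv hψ) ⟨θ, hker⟩
  have hαψ : ∀ g, α (ψ g) = θ g := fun g =>
    MonoidHom.liftOfRightInverse_comp_apply ψ _ (Function.rightInverse_surjInv hψ) ⟨θ, hker⟩ g
  have hαs : Function.Surjective α := fun r => by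
    obtain ⟨g, hg⟩ := hψ r
    refine ⟨ψ ⟨s⁻¹ * g * s, by rw [hsi]; have := hsC g g.2; rwa [hsi] at this⟩, ?_⟩
    rw [hαψ, ← hg]
    refine Subtype.ext (congrArg P.pv ?_)
    show s * (s⁻¹ * g * s) * s⁻¹ = g
    group
  obtain ⟨π, hπ⟩ := exists_perm α hαs
  have hπC : ∀ g ∈ F.C, π * P.pv g * π⁻¹ = P.pv (s * g * s⁻¹) := fun g hg =>
    (hπ (ψ ⟨g, hg⟩)).trans (congrArg Subtype.val (hαψ ⟨g, hg⟩))
  rcases M.outer π (fun r hr => by
      obtain ⟨g, hg, rfl⟩ := P.surj r hr
      rw [hπC g hg]; exact P.mem _ (hsC g hg))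
    (fun r hr => by
      obtain ⟨l, hl, rfl⟩ := P.L_surj r hr
      rw [hπC l (F.L_le hl)]; exact P.L_mem _ (F.normL s hst l hl)) with
    ⟨r, hr, x, hx, ho, hrx⟩ | ⟨r, hr, hrd⟩
  · exfalso
    obtain ⟨l, hl, rfl⟩ := P.L_surj r hr
    obtain ⟨w, hw, rfl⟩ := P.L_surj x hx
    have hlt : l * F.t = F.t * l := (F.comm _ F.t_mem l hl).symm
    have hlE : l ∈ centralizer (F.E : Set G) :=
      (F.cent_E l).2 ⟨1, one_mem _, l, hl, (one_mul l).symm⟩
    have hgt : l * s * F.t = F.t * (l * s) := by rw [mul_assoc, hst, ← mul_assoc, hlt, mul_assoc]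
    have how : orderOf (P.pv w) = orderOf w := by
      refine Nat.dvd_antisymm (orderOf_dvd_of_pow_eq_one ?_) (orderOf_dvd_of_pow_eq_one ?_)
      · rw [← P.pow (F.L_le hw), pow_orderOf_eq_one, P.one]
      · exact P.L_inj _ (pow_mem hw _) (by rw [P.pow (F.L_le hw), pow_orderOf_eq_one])
    rw [how] at ho
    refine F.outer (l * s) hgt (fun h => hsE ?_) w hw ho ?_
    · have := mul_mem (inv_mem hlE) h
      rwa [inv_mul_cancel_left] at this
    have hsw := F.normL s hst w hw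
    have e : l * (s * w * s⁻¹) * l⁻¹ = w := by
      refine P.L_eq (mul_mem (mul_mem hl hsw) (inv_mem hl)) hw ?_
      rw [P.mul _ (mul_mem (F.L_le hl) (F.L_le hsw)) _ (inv_mem (F.L_le hl)),
        P.mul _ (F.L_le hl) _ (F.L_le hsw), P.inv (F.L_le hl), ← hπC w (F.L_le hw),
        show P.pv l * (π * P.pv w * π⁻¹) * (P.pv l)⁻¹ = P.pv l * π * P.pv w * (P.pv l * π)⁻¹ by group,
        hrx, mul_inv_cancel_right]
    conv_rhs => rw [← e]
    group
  · obtain ⟨c, hc, rfl⟩ := P.surj r hr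
    obtain ⟨d, hd⟩ : ∃ d, d = c * s := ⟨_, rfl⟩
    have hdy : d * F.y * d⁻¹ = F.y⁻¹ := by
      have h : Commute c F.y := mem_centralizer_singleton_iff.1 hc
      rw [hd, show c * s * F.y * (c * s)⁻¹ = c * (s * F.y * s⁻¹) * c⁻¹ by group, hsy,
        h.inv_right.eq, mul_inv_cancel_right]
    have hact : ∀ g ∈ F.C, d * g * d⁻¹ ∈ F.C ∧ P.pv (d * g * d⁻¹) = delta * P.pv g * delta⁻¹ := by
      intro g hg
      have e : d * g * d⁻¹ = c * (s * g * s⁻¹) * c⁻¹ := by rw [hd]; group
      rw [e]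
      refine ⟨mul_mem (mul_mem hc (hsC g hg)) (inv_mem hc), ?_⟩
      rw [P.mul _ (mul_mem hc (hsC g hg)) _ (inv_mem hc), P.mul _ hc _ (hsC g hg), P.inv hc,
        ← hπC g hg, ← hrd]
      group
    have hd2y : d * d * F.y * (d * d)⁻¹ = F.y := by
      calc _ = d * (d * F.y * d⁻¹) * d⁻¹ := by group
        _ = d * F.y⁻¹ * d⁻¹ := by rw [hdy]
        _ = (d * F.y * d⁻¹)⁻¹ := by group
        _ = F.y := by rw [hdy, inv_inv]
    have hd2C : d * d ∈ F.C := mem_centralizer_singleton_iff.2 (mul_inv_eq_iff_eq_mul.1 hd2y)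
    have hcen : (⟨P.pv (d * d), P.mem _ hd2C⟩ : GP) ∈ center GP := Subgroup.mem_center_iff.2 fun r => by
      obtain ⟨g, hg, e⟩ := P.surj r r.2
      obtain ⟨g1, g2⟩ := hact g hg
      obtain ⟨k1, k2⟩ := hact _ g1
      have e' : d * (d * g * d⁻¹) * d⁻¹ = d * d * g * (d * d)⁻¹ := by group
      rw [g2, e', P.mul _ (mul_mem hd2C hg) _ (inv_mem hd2C), P.mul _ hd2C _ hg, P.inv hd2C,
        inv_eq_of_mul_eq_one_right M.delta_sq,
        show delta * (delta * P.pv g * delta) * delta = delta * delta * P.pv g * (delta * delta) by group,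
        M.delta_sq, one_mul, mul_one, mul_inv_eq_iff_eq_mul] at k2
      refine Subtype.ext ?_
      show (r : Equiv.Perm (Fin 112)) * P.pv (d * d) = P.pv (d * d) * r
      rw [← e]
      exact k2.symm
    rw [GP_center, mem_bot] at hcen
    obtain ⟨k, hk⟩ := (P.ker _ hd2C).1 (congrArg Subtype.val hcen)
    have hinv : d * (d * d) * d⁻¹ = (d * d)⁻¹ := by
      rw [← hk, ← conj_zpow, hdy, inv_zpow]
    rw [show d * (d * d) * d⁻¹ = d * d by group] at hinv
    have h4 : d * d * (d * d) = 1 := by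
      calc _ = d * d * (d * d)⁻¹ := by rw [← hinv]
        _ = 1 := mul_inv_cancel _
    have h3 : (d * d) ^ 3 = 1 := by
      rw [← hk, ← zpow_natCast, ← zpow_mul, mul_comm, zpow_mul, zpow_natCast,
        pow_succ, pow_two, F.y_three, one_zpow]
    have hd2 : d * d = 1 := by
      rw [pow_succ, pow_two, h4, one_mul] at h3
      exact h3
    have hdi : d⁻¹ = d := inv_eq_of_mul_eq_one_right hd2
    refine ⟨⟨d, hd2, by rw [← hdy, hdi], fun g hg => ?_⟩⟩
    have := hact g hg
    rwa [hdi, inv_eq_of_mul_eq_one_right M.delta_sq] at this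

end CfsgLib.InvChar.SuzUniq
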