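import Cfsg.Agent.Lib.Recog.McLRank.Hemi

/-!
Parameters of the quadrangle of 112 points.
-/

set_option autoImplicit false
set_option maxRecDepth 100000
set_option maxHeartbeats 400000
set_option Elab.async false

namespace CfsgLib.InvChar.SuzUniq

open CfsgLib.KnownA.PermCert CfsgLib.KnownA.U4ThreeSchur CfsgLib.Recog.McLRank

/-- The lines as a finite set. -/
def LinesF : Finset (Finset (Fin 112)) := (lineMasks.map (mS 112)).toFinset

theorem mem_LinesF {ℓ : Finset (Fin 112)} : ℓ ∈ LinesF ↔ ℓ ∈ Lines := by
  simp [LinesF, Lines, List.mem_map]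

theorem card_filter_fin {n : ℕ} (q : ℕ → Bool) :
    (Finset.univ.filter fun w : Fin n => q w = true).card = (List.range n).countP q := by
  rw [List.countP_eq_length_filter,
    ← List.toFinset_card_of_nodup (List.nodup_range.filter _)]
  refine Finset.card_bij (fun w _ => (w : ℕ)) ?_ ?_ ?_
  · intro w hw
    rw [List.mem_toFinset, List.mem_filter, List.mem_range]
    exact ⟨w.2, (Finset.mem_filter.1 hw).2⟩
  · intro a _ b _ e; exact Fin.ext e
  · intro i hi
    rw [List.mem_toFinset, List.mem_filter, List.mem_range] at hi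
    exact ⟨⟨i, hi.1⟩, Finset.mem_filter.2 ⟨Finset.mem_univ _, hi.2⟩, rfl⟩

/-- The listed neighbours of a point. -/
def nbrs (i : ℕ) : List ℕ := (List.range 112).filter fun j => (adjX.getD i 0).testBit j

/-- The check of the parameters at a point. -/
def srgRow (i : ℕ) (nb : List ℕ) : Bool :=
  Nat.beq nb.length 30 && !(adjX.getD i 0).testBit i &&
    (List.range 112).all fun j => ((adjX.getD i 0).testBit j == (adjX.getD j 0).testBit i) &&
      (Nat.beq i j || Nat.beq (nb.countP fun w => (adjX.getD j 0).testBit w)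
        (bif (adjX.getD i 0).testBit j then 2 else 10))

theorem srg_check : (List.range 112).all (fun i => srgRow i (nbrs i)) = true := by decide +kernel

theorem adj_symm {x z : Fin 112} (h : AdjX x z) : AdjX z x := by
  have := srg_check
  simp only [srgRow, List.all_eq_true, List.mem_range, Bool.and_eq_true, beq_iff_eq] at this
  show (adjX.getD z 0).testBit x = true
  rw [← ((this x x.2).2 z z.2).1]
  exact h

theorem adj_comm (x z : Fin 112) : AdjX x z ↔ AdjX z x := ⟨adj_symm, adj_symm⟩

theorem adj_irrefl (x : Fin 112) : ¬ AdjX x x := by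
  have := srg_check
  simp only [srgRow, List.all_eq_true, List.mem_range, Bool.and_eq_true, Bool.not_eq_true'] at this
  intro h
  have h' : (adjX.getD x 0).testBit x = true := h
  rw [(this x x.2).1.2] at h'
  exact Bool.false_ne_true h'

theorem adj_card (x : Fin 112) : (Finset.univ.filter fun w => AdjX x w).card = 30 := by
  have := srg_check
  simp only [srgRow, List.all_eq_true, List.mem_range, Bool.and_eq_true] at this
  rw [← Nat.eq_of_beq_eq_true (this x x.2).1.1, nbrs, ← List.countP_eq_length_filter, ← card_filter_fin]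
  rfl

theorem adj_common {x z : Fin 112} (hne : x ≠ z) :
    (Finset.univ.filter fun w => AdjX x w ∧ AdjX z w).card = if AdjX x z then 2 else 10 := by
  have := srg_check
  simp only [srgRow, List.all_eq_true, List.mem_range, Bool.and_eq_true, Bool.or_eq_true] at this
  rcases ((this x x.2).2 z z.2).2 with h | h
  · exact absurd (Fin.ext (Nat.eq_of_beq_eq_true h)) hne
  · have e := Nat.eq_of_beq_eq_true h
    rw [nbrs, List.countP_filter, ← card_filter_fin (n := 112)] at e
    have hset : (Finset.univ.filter fun w => AdjX x w ∧ AdjX z w) =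
        Finset.univ.filter fun w : Fin 112 =>
          ((adjX.getD z 0).testBit w && (adjX.getD x 0).testBit w) = true := by
      ext w
      simp only [Finset.mem_filter, Bool.and_eq_true]
      exact ⟨fun ⟨h1, h2, h3⟩ => ⟨h1, h3, h2⟩, fun ⟨h1, h2, h3⟩ => ⟨h1, h3, h2⟩⟩
    rw [hset, e]
    by_cases ha : AdjX x z
    · rw [if_pos ha, show (adjX.getD x 0).testBit z = true from ha]; rfl
    · rw [if_neg ha, Bool.eq_false_iff.2 (show ¬ (adjX.getD x 0).testBit z = true from ha)]; rfl

/-- The lines through a point. -/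
def linesAt (i : ℕ) : List ℕ := lineMasks.filter fun m => m.testBit i

/-- The check of the lines through a point. -/
def linesRow (i : ℕ) (ls : List ℕ) : Bool :=
  (List.range 112).all fun j => Nat.beq (ls.countP fun m => m.testBit j)
    (bif Nat.beq i j then 10 else bif (adjX.getD i 0).testBit j then 1 else 0)

theorem lines_check : (List.range 112).all (fun i => linesRow i (linesAt i)) = true ∧
    lineMasks.Nodup ∧ lineMasks.all (fun m => Nat.blt m (2 ^ 112)) = true ∧
    lineMasks.all (fun m => Nat.beq ((List.range 112).countP fun i => m.testBit i) 4) = true := by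
  decide +kernel

theorem line_card {ℓ : Finset (Fin 112)} (h : ℓ ∈ LinesF) : ℓ.card = 4 := by
  rw [LinesF, List.mem_toFinset, List.mem_map] at h
  obtain ⟨m, hm, rfl⟩ := h
  rw [← Nat.eq_of_beq_eq_true (List.all_eq_true.1 lines_check.2.2.2 m hm), mS, card_filter_fin]

theorem lines_through (x z : Fin 112) :
    (LinesF.filter fun ℓ => x ∈ ℓ ∧ z ∈ ℓ).card =
      if x = z then 10 else if AdjX x z then 1 else 0 := by
  obtain ⟨hr, hnd, hlt, -⟩ := lines_check
  simp only [linesRow, List.all_eq_true, List.mem_range] at hr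
  rw [List.all_eq_true] at hlt
  have e := Nat.eq_of_beq_eq_true (hr x x.2 z z.2)
  rw [linesAt, List.countP_filter, List.countP_eq_length_filter,
    ← List.toFinset_card_of_nodup (hnd.filter _)] at e
  have hcard : (LinesF.filter fun ℓ => x ∈ ℓ ∧ z ∈ ℓ).card =
      (lineMasks.filter fun m => m.testBit z && m.testBit x).toFinset.card := by
    symm
    refine Finset.card_bij (fun m _ => mS 112 m) ?_ ?_ ?_
    · intro m hm
      rw [List.mem_toFinset, List.mem_filter, Bool.and_eq_true] at hm
      exact Finset.mem_filter.2 ⟨List.mem_toFinset.2 (List.mem_map.2 ⟨m, hm.1, rfl⟩),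
        mem_mS.2 hm.2.2, mem_mS.2 hm.2.1⟩
    · intro m hm m' hm' em
      rw [List.mem_toFinset, List.mem_filter] at hm hm'
      refine Nat.eq_of_testBit_eq fun i => ?_
      by_cases hi : i < 112
      · have := Finset.ext_iff.1 em ⟨i, hi⟩
        rw [mem_mS, mem_mS] at this
        exact Bool.eq_iff_iff.2 this
      · have hp : (2 : ℕ) ^ 112 ≤ 2 ^ i := Nat.pow_le_pow_right (by norm_num) (Nat.le_of_not_lt hi)
        rw [Nat.testBit_lt_two_pow (lt_of_lt_of_le (Nat.blt_eq.mp (hlt m hm.1)) hp),
          Nat.testBit_lt_two_pow (lt_of_lt_of_le (Nat.blt_eq.mp (hlt m' hm'.1)) hp)]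
    · intro ℓ hℓ
      rw [Finset.mem_filter, LinesF, List.mem_toFinset, List.mem_map] at hℓ
      obtain ⟨⟨m, hm, rfl⟩, hx, hz⟩ := hℓ
      exact ⟨m, List.mem_toFinset.2 (List.mem_filter.2
        ⟨hm, by rw [mem_mS.1 hx, mem_mS.1 hz]; rfl⟩), rfl⟩
  rw [hcard, e]
  by_cases hxz : x = z
  · subst hxz
    rw [if_pos rfl, Nat.beq_refl]; rfl
  · have hb : Nat.beq x z = false := Bool.eq_false_iff.2 fun h => hxz (Fin.ext (Nat.eq_of_beq_eq_true h))
    rw [if_neg hxz, hb]
    by_cases ha : AdjX x z
    · rw [if_pos ha, show (adjX.getD x 0).testBit z = true from ha]; rfl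
    · rw [if_neg ha, Bool.eq_false_iff.2 (show ¬ (adjX.getD x 0).testBit z = true from ha)]; rfl

end CfsgLib.InvChar.SuzUniq
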