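import Cfsg.Agent.Lib.InvChar.SuzUniq.ModelStd

/-!
The standard copy of `L₃(4)` as the stabiliser of a half of the quadrangle, the eight coset
representatives, and the relations of the outer involution.
-/

set_option autoImplicit false
set_option maxRecDepth 100000
set_option maxHeartbeats 400000
set_option Elab.async false

open scoped Pointwise

namespace CfsgLib.InvChar.SuzUniq

open CfsgLib.KnownA.PermCert CfsgLib.KnownA.U4ThreeSchur CfsgLib.Recog.McLRank

/-- The four listed orbits of halves. -/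
def orb (k : ℕ) : List ℕ := orbHalves.getD k []

/-- A set is in one of the listed orbits. -/
def InOrb (S : Finset (Fin 112)) (k : ℕ) : Prop := ∃ m ∈ orb k, S = mS 112 m

/-- The half fixed by the standard copy. -/
noncomputable def S0 : Finset (Fin 112) := mS 112 maskS
/-- The other half. -/
noncomputable def T0 : Finset (Fin 112) := mS 112 maskT

theorem mS_inj {m m' : ℕ} (h : m < 2 ^ 112) (h' : m' < 2 ^ 112) (e : mS 112 m = mS 112 m') :
    m = m' := by
  refine Nat.eq_of_testBit_eq fun i => ?_
  by_cases hi : i < 112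
  · have := Finset.ext_iff.1 e ⟨i, hi⟩
    rw [mem_mS, mem_mS] at this
    exact Bool.eq_iff_iff.2 this
  · have hp : (2 : ℕ) ^ 112 ≤ 2 ^ i := Nat.pow_le_pow_right (by norm_num) (Nat.le_of_not_lt hi)
    rw [Nat.testBit_lt_two_pow (lt_of_lt_of_le h hp), Nat.testBit_lt_two_pow (lt_of_lt_of_le h' hp)]

theorem orb_GP {S : Finset (Fin 112)} {k : ℕ} (hk : k < 4) (h : InOrb S k)
    {σ : Equiv.Perm (Fin 112)} (hσ : σ ∈ GP) : InOrb (S.image σ) k := by
  obtain ⟨m, hm, rfl⟩ := h
  obtain ⟨m', hm', e⟩ := half_GP (k := ⟨k, hk⟩) hm hσ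
  exact ⟨m', hm', e⟩

theorem orb_check :
    ((List.range 4).all fun k => (orb k).all fun m => Nat.blt m (2 ^ 112)) = true ∧
    (orb 3).Nodup ∧ (orb 3).length = 162 ∧ (orb 3).getD posS 0 = maskS ∧
    (orb 0).any (Nat.beq maskT) = true ∧
    (orb 0).any (Nat.beq maskS) = false ∧ (orb 3).any (Nat.beq maskT) = false ∧
    maskS ||| maskT = 2 ^ 112 - 1 ∧ maskS &&& maskT = 0 := by
  decide +kernel

theorem orb_lt {k m : ℕ} (hk : k < 4) (h : m ∈ orb k) : m < 2 ^ 112 := by
  have := orb_check.1
  simp only [List.all_eq_true, List.mem_range, Nat.blt_eq] at this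
  exact this k hk m h

theorem maskS_lt : maskS < 2 ^ 112 := by decide +kernel

theorem maskT_lt : maskT < 2 ^ 112 := by decide +kernel

theorem inOrb_S0 : InOrb S0 3 := by
  refine ⟨maskS, ?_, rfl⟩
  rw [← orb_check.2.2.2.1, List.getD_eq_getElem _ _ (by rw [orb_check.2.2.1]; decide)]
  exact List.getElem_mem _

theorem inOrb_T0 : InOrb T0 0 := by
  obtain ⟨m, hm, e⟩ := List.any_eq_true.1 orb_check.2.2.2.2.1
  exact ⟨m, hm, by rw [T0, Nat.eq_of_beq_eq_true e]⟩

/-- The generators of a group transitive on the orbit of the first half. -/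
def codesK : List ℕ := codesL ++ [codeCD]

/-- The steps reach every member of the orbit. -/
def stepsOK : List ℕ → List (ℕ × ℕ × ℕ) → Bool
  | seen, [] => (List.range 162).all fun i => seen.any (Nat.beq i)
  | seen, (i, g, j) :: r => seen.any (Nat.beq i) && Nat.blt g codesK.length &&
      Nat.beq (imgM (codesK.getD g 0) ((orb 3).getD i 0) 112) ((orb 3).getD j 0) &&
      stepsOK (j :: seen) r

theorem steps_ok : stepsOK [posS] stepsS = true := by decide +kernel

theorem stepsOK_sound (K : Subgroup (Equiv.Perm (Fin 112)))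
    (hK : ∀ c ∈ codesK, permOf 112 c ∈ K) :
    ∀ {L : List (ℕ × ℕ × ℕ)} {seen : List ℕ},
      (∀ i ∈ seen, ∃ σ ∈ K, S0.image σ = mS 112 ((orb 3).getD i 0)) →
      stepsOK seen L = true →
      ∀ i < 162, ∃ σ ∈ K, S0.image σ = mS 112 ((orb 3).getD i 0)
  | [], seen, h, hc, i, hi => by
    simp only [stepsOK, List.all_eq_true, List.mem_range, List.any_eq_true] at hc
    obtain ⟨j, hj, e⟩ := hc i hi
    rw [Nat.eq_of_beq_eq_true e]
    exact h j hj
  | (a, g, b) :: r, seen, h, hc, i, hi => by
    simp only [stepsOK, Bool.and_eq_true, List.any_eq_true, Nat.blt_eq] at hc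
    obtain ⟨⟨⟨⟨a', ha', ea⟩, hg⟩, he⟩, hr⟩ := hc
    refine stepsOK_sound K hK (fun x hx => ?_) hr i hi
    rcases List.mem_cons.1 hx with rfl | hx
    · obtain ⟨σ, hσ, e⟩ := h a' ha'
      rw [← Nat.eq_of_beq_eq_true ea] at e
      have hmem : codesK.getD g 0 ∈ codesK := by
        rw [List.getD_eq_getElem _ _ hg]; exact List.getElem_mem _
      refine ⟨permOf 112 (codesK.getD g 0) * σ, mul_mem (hK _ hmem) hσ, ?_⟩
      rw [Equiv.Perm.coe_mul, ← Finset.image_image, e, image_mS (codeK_mem _ hmem).1,
        Nat.eq_of_beq_eq_true he]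
    · exact h x hx

/-- The group generated by the standard copy and a conjugate of its third generator is transitive
on the orbit of the first half. -/
theorem trans_S0 {S : Finset (Fin 112)} (h : InOrb S 3) :
    ∃ σ ∈ genGroup 112 codesK, S0.image σ = S := by
  obtain ⟨m, hm, rfl⟩ := h
  obtain ⟨i, hi, e⟩ := List.getElem_of_mem hm
  have hi' : i < 162 := orb_check.2.2.1 ▸ hi
  obtain ⟨σ, hσ, hs⟩ := stepsOK_sound (genGroup 112 codesK) (fun c hc => mem_genGroup hc)
    (fun x hx => by
      rw [List.mem_singleton] at hx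
      subst hx
      exact ⟨1, one_mem _, by rw [orb_check.2.2.2.1]; simp [S0]⟩)
    steps_ok i hi'
  exact ⟨σ, hσ, by rw [hs, List.getD_eq_getElem _ _ hi, e]⟩

theorem genK_le : genGroup 112 codesK ≤ GP := genGroup_le fun c hc => (codeK_mem c hc).2

theorem fix_check : codesL.all (fun c => Nat.beq (imgM c maskS 112) maskS &&
    Nat.beq (imgM c maskT 112) maskT) = true := by decide +kernel

theorem Lstd_fix {σ : Equiv.Perm (Fin 112)} (h : σ ∈ Lstd) : S0.image σ = S0 ∧ T0.image σ = T0 := by
  rw [Lstd_eq] at h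
  have hv : ∀ c ∈ codesL, valid 112 c = true := fun c hc => (codeK_mem c (List.mem_append_left _ hc)).1
  have hfix := fix_check
  simp only [List.all_eq_true, Bool.and_eq_true] at hfix
  have hle : genGroup 112 codesL ≤ MulAction.stabilizer (Equiv.Perm (Fin 112)) S0 ⊓
      MulAction.stabilizer (Equiv.Perm (Fin 112)) T0 := genGroup_le fun c hc => by
    refine ⟨?_, ?_⟩
    · show S0.image (permOf 112 c) = S0
      rw [S0, image_mS (hv c hc), Nat.eq_of_beq_eq_true (hfix c hc).1]
    · show T0.image (permOf 112 c) = T0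
      rw [T0, image_mS (hv c hc), Nat.eq_of_beq_eq_true (hfix c hc).2]
  exact hle h

/-- The stabiliser of the first half has the order of the standard copy. -/
theorem card_stab :
    Nat.card (GP ⊓ MulAction.stabilizer (Equiv.Perm (Fin 112)) S0 :
      Subgroup (Equiv.Perm (Fin 112))) = 20160 := by
  have horb : MulAction.orbit GP S0 = ↑(((orb 3).map (mS 112)).toFinset) := by
    ext S
    simp only [List.coe_toFinset, List.mem_map, Set.mem_setOf_eq]
    constructor
    · rintro ⟨⟨σ, hσ⟩, rfl⟩
      obtain ⟨m, hm, e⟩ := orb_GP (by norm_num) inOrb_S0 hσ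
      exact ⟨m, hm, e.symm⟩
    · rintro ⟨m, hm, rfl⟩
      obtain ⟨σ, hσ, e⟩ := trans_S0 ⟨m, hm, rfl⟩
      exact ⟨⟨σ, genK_le hσ⟩, e⟩
  have hc : Nat.card (MulAction.orbit GP S0) = 162 := by
    rw [horb, Nat.card_coe_set_eq, Set.ncard_coe_finset, List.toFinset_card_of_nodup]
    · rw [List.length_map, orb_check.2.2.1]
    · exact List.Nodup.map_on (fun a ha b hb e => mS_inj (orb_lt (by norm_num) ha)
        (orb_lt (by norm_num) hb) e) orb_check.2.1
  have h := Nat.card_congr (MulAction.orbitProdStabilizerEquivGroup GP S0)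
  rw [Nat.card_prod, hc, card_GP] at h
  have e : Nat.card (GP ⊓ MulAction.stabilizer (Equiv.Perm (Fin 112)) S0 :
      Subgroup (Equiv.Perm (Fin 112))) = Nat.card (MulAction.stabilizer GP S0) :=
    Nat.card_congr
      { toFun := fun x => ⟨⟨x.1, x.2.1⟩, x.2.2⟩
        invFun := fun x => ⟨x.1.1, x.1.2, x.2⟩
        left_inv := fun _ => rfl
        right_inv := fun _ => rfl }
  omega

/-- The standard copy is the stabiliser of the first half. -/
theorem Lstd_eq_stab : Lstd = GP ⊓ MulAction.stabilizer (Equiv.Perm (Fin 112)) S0 := by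
  refine Subgroup.eq_of_le_of_card_ge (le_inf Lstd_le fun σ hσ => (Lstd_fix hσ).1) ?_
  rw [card_stab]
  exact card_Lstd

theorem card_Lstd_eq : Nat.card Lstd = 20160 := by rw [Lstd_eq_stab, card_stab]

theorem mem_Lstd {σ : Equiv.Perm (Fin 112)} (h : σ ∈ GP) (h' : S0.image σ = S0) : σ ∈ Lstd := by
  rw [Lstd_eq_stab]; exact ⟨h, h'⟩

/-- The code of a representative. -/
def tauC (i : ℕ) : ℕ := codesTau.getD i 0

/-- A representative of a coset of the automorphisms. -/
noncomputable def tau (i : ℕ) : Equiv.Perm (Fin 112) := permOf 112 (tauC i)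

theorem tau_check : ((List.range 8).all fun i => valid 112 (tauC i) &&
    inGP (codesConj.getD (2 * i) 0) (wordsConj.getD (2 * i) []) &&
    inGP (codesConj.getD (2 * i + 1) 0) (wordsConj.getD (2 * i + 1) []) &&
    eqW 112 [tauC i, codeA] [codesConj.getD (2 * i) 0, tauC i] &&
    eqW 112 [tauC i, codeB] [codesConj.getD (2 * i + 1) 0, tauC i]) = true ∧
    eqW 112 [tauC 0] [] = true := by
  decide +kernel

theorem tau_valid {i : ℕ} (hi : i < 8) : valid 112 (tauC i) = true := by
  have := tau_check.1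
  simp only [List.all_eq_true, List.mem_range, Bool.and_eq_true] at this
  exact (this i hi).1.1.1.1

theorem tau_zero : tau 0 = 1 := by
  have := (eqW_iff (L := [tauC 0]) (L' := []) (by simp [tau_valid (i := 0) (by norm_num)])
    (by simp)).1 tau_check.2
  simpa [prodW, tau] using this

theorem tau_conj {i : ℕ} (hi : i < 8) {s : Equiv.Perm (Fin 112)} (hs : s ∈ GP) :
    tau i * s * (tau i)⁻¹ ∈ GP := by
  have := tau_check.1
  simp only [List.all_eq_true, List.mem_range, Bool.and_eq_true] at this
  obtain ⟨⟨⟨⟨hv, hA⟩, hB⟩, eA⟩, eB⟩ := this i hi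
  have key : ∀ {c d : ℕ}, valid 112 c = true → valid 112 d = true → permOf 112 d ∈ GP →
      eqW 112 [tauC i, c] [d, tauC i] = true → tau i * permOf 112 c * (tau i)⁻¹ ∈ GP := by
    intro c d hc hd hdG e
    have h' := (eqW_iff (L := [tauC i, c]) (L' := [d, tauC i]) (by simp [hv, hc]) (by simp [hv, hd])).1 e
    have h'' : tau i * permOf 112 c = permOf 112 d * tau i := by simpa [prodW, tau] using h'
    rw [h'', mul_inv_cancel_right]
    exact hdG
  have hle : GP ≤ GP.comap (MulAut.conj (tau i)).toMonoidHom := genGroup_le fun c hc => by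
    show tau i * permOf 112 c * (tau i)⁻¹ ∈ GP
    simp only [gensG, List.mem_cons, List.not_mem_nil, or_false] at hc
    rcases hc with rfl | rfl
    · exact key (valid_gensG _ (by simp [gensG])).1 (inGP_sound hA).1 (inGP_sound hA).2 eA
    · exact key (valid_gensG _ (by simp [gensG])).1 (inGP_sound hB).1 (inGP_sound hB).2 eB
  exact hle hs

theorem delta_code : codeDelta = tauC 1 := by decide +kernel

theorem delta_eq : delta = tau 1 := by rw [delta, delta_code, tau]

theorem delta_valid : valid 112 codeDelta = true := delta_code ▸ tau_valid (by norm_num)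

theorem delta_conj {s : Equiv.Perm (Fin 112)} (hs : s ∈ GP) : delta * s * delta⁻¹ ∈ GP := by
  rw [delta_eq]; exact tau_conj (by norm_num) hs

theorem delta_move :
    (orb 1).any (Nat.beq (reps.getD 1 0)) = true ∧
    (orb 1).any (Nat.beq (imgM codeDelta (reps.getD 1 0) 112)) = false ∧
    imgM codeDelta (reps.getD 1 0) 112 < 2 ^ 112 := by
  decide +kernel

theorem delta_notMem : delta ∉ GP := fun h => by
  obtain ⟨h1, h2, h3⟩ := delta_move
  obtain ⟨m, hm, e⟩ := List.any_eq_true.1 h1
  have hin : InOrb (mS 112 (reps.getD 1 0)) 1 := ⟨m, hm, by rw [Nat.eq_of_beq_eq_true e]⟩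
  obtain ⟨m', hm', e'⟩ := orb_GP (by norm_num) hin h
  rw [delta, image_mS delta_valid] at e'
  rw [List.any_eq_false] at h2
  refine h2 m' hm' ?_
  rw [mS_inj h3 (orb_lt (by norm_num) hm') e']
  exact Nat.beq_refl m'

theorem delta_check :
    relOK [codeDelta, codeDelta] [] = true ∧
    relOK [codeDelta, cL 0] [cL 0, codeDelta] = true ∧
    relOK [codeDelta, cL 1] [cL 1, codeDelta] = true ∧
    relOK [codeDelta, cL 3] [cL 3, codeDelta] = true ∧
    relOK [codeDelta, cL 4] [cL 4, codeDelta] = true ∧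
    relOK ((List.replicate 4 [cL 2, codeDelta]).flatten) [cL 0] = true ∧
    relOK ((List.replicate 5 [cL 1, cL 2, codeDelta, cL 2, codeDelta]).flatten) [] = true ∧
    relOK [codeCD] [codeDelta, cL 2, codeDelta] = true := by
  decide +kernel

theorem delta_sq : delta * delta = 1 := by
  simpa [prodW, delta] using rel_eq delta_check.1 (by simp [delta_valid]) (by simp)

theorem delta_comm : delta * a0 = a0 * delta ∧ delta * b0 = b0 * delta ∧ delta * f0 = f0 * delta ∧
    delta * g0 = g0 * delta := by
  obtain ⟨-, h0, h1, h3, h4, -⟩ := delta_check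
  have v0 := cL_valid (i := 0) (by norm_num)
  have v1 := cL_valid (i := 1) (by norm_num)
  have v3 := cL_valid (i := 3) (by norm_num)
  have v4 := cL_valid (i := 4) (by norm_num)
  have vd := delta_valid
  refine ⟨?_, ?_, ?_, ?_⟩
  · simpa [prodW, delta, a0] using rel_eq h0 (by simp [vd, v0]) (by simp [vd, v0])
  · simpa [prodW, delta, b0] using rel_eq h1 (by simp [vd, v1]) (by simp [vd, v1])
  · simpa [prodW, delta, f0] using rel_eq h3 (by simp [vd, v3]) (by simp [vd, v3])
  · simpa [prodW, delta, g0] using rel_eq h4 (by simp [vd, v4]) (by simp [vd, v4])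

theorem delta_rel : (c0 * delta) ^ 4 = a0 ∧ (b0 * c0 * delta * c0 * delta) ^ 5 = 1 := by
  obtain ⟨-, -, -, -, -, h1, h2, -⟩ := delta_check
  have v0 := cL_valid (i := 0) (by norm_num)
  have v1 := cL_valid (i := 1) (by norm_num)
  have v2 := cL_valid (i := 2) (by norm_num)
  have vd := delta_valid
  have vv : ∀ (L : List ℕ), (∀ c ∈ L, valid 112 c = true) → ∀ k, ∀ c ∈ (List.replicate k L).flatten,
      valid 112 c = true := by
    intro L hL k c hc
    simp only [List.mem_flatten, List.mem_replicate] at hc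
    obtain ⟨l, ⟨-, rfl⟩, hc⟩ := hc
    exact hL c hc
  refine ⟨?_, ?_⟩
  · have := rel_eq h1 (vv _ (by simp [v2, vd]) _) (by simp [v0])
    rw [prodW_replicate] at this; simpa [prodW, c0, delta, a0] using this
  · have := rel_eq h2 (vv _ (by simp [v1, v2, vd]) _) (by simp)
    rw [prodW_replicate] at this; simpa [prodW, b0, c0, delta, mul_assoc] using this

/-- The model group is generated by the standard copy and the outer involution, within the
automorphisms. -/
theorem GP_le_closure :
    GP ≤ Subgroup.closure ({a0, b0, c0, f0, g0, delta} : Set (Equiv.Perm (Fin 112))) := by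
  set C := Subgroup.closure ({a0, b0, c0, f0, g0, delta} : Set (Equiv.Perm (Fin 112)))
  have hm : ∀ x ∈ ({a0, b0, c0, f0, g0, delta} : Set (Equiv.Perm (Fin 112))), x ∈ C :=
    fun x hx => Subgroup.subset_closure hx
  have hL : Lstd ≤ C := Subgroup.closure_mono (by
    intro x hx
    simp only [Set.mem_insert_iff, Set.mem_singleton_iff] at hx ⊢
    tauto)
  have hcd : permOf 112 codeCD = delta * c0 * delta := by
    have h := rel_eq delta_check.2.2.2.2.2.2.2
      (by simp [(codeK_mem codeCD (by simp)).1]) (by simp [delta_valid, cL_valid (i := 2) (by norm_num)])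
    simpa [prodW, delta, c0, mul_assoc] using h
  have hK : genGroup 112 codesK ≤ C := genGroup_le fun c hc => by
    rcases List.mem_append.1 hc with hc | hc
    · exact hL (Lstd_eq ▸ mem_genGroup hc)
    · rw [List.mem_singleton.1 hc, hcd]
      exact mul_mem (mul_mem (hm _ (by simp)) (hm _ (by simp))) (hm _ (by simp))
  intro g hg
  obtain ⟨σ, hσ, e⟩ := trans_S0 (orb_GP (by norm_num) inOrb_S0 hg)
  have : σ⁻¹ * g ∈ Lstd := by
    refine mem_Lstd (mul_mem (inv_mem (genK_le hσ)) hg) ?_
    rw [Equiv.Perm.coe_mul, ← Finset.image_image, ← e, Finset.image_image, ← Equiv.Perm.coe_mul,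
      inv_mul_cancel]
    simp
  have := mul_mem (hK hσ) (hL this)
  rwa [mul_inv_cancel_left] at this

end CfsgLib.InvChar.SuzUniq
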