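import Cfsg.Agent.Lib.InvChar.SuzUniq.Rel
import Cfsg.Agent.Lib.InvChar.SuzUniq.ModelData
import Cfsg.Agent.Lib.Recog.McLRank.Hemi

/-!
The standard copy of `L₃(4)` in the permutation model of `U₄(3)`: relations, order, and the
outer involution.
-/

set_option autoImplicit false
set_option maxRecDepth 100000
set_option Elab.async false

namespace CfsgLib.InvChar.SuzUniq

open CfsgLib.KnownA.PermCert CfsgLib.KnownA.U4ThreeSchur CfsgLib.Recog.McLRank

/-- The code of a generator. -/
def cL (i : ℕ) : ℕ := codesL.getD i 0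

/-- The generators. -/
noncomputable def a0 : Equiv.Perm (Fin 112) := permOf 112 (cL 0)
/-- The generators. -/
noncomputable def b0 : Equiv.Perm (Fin 112) := permOf 112 (cL 1)
/-- The generators. -/
noncomputable def c0 : Equiv.Perm (Fin 112) := permOf 112 (cL 2)
/-- The generators. -/
noncomputable def f0 : Equiv.Perm (Fin 112) := permOf 112 (cL 3)
/-- The generators. -/
noncomputable def g0 : Equiv.Perm (Fin 112) := permOf 112 (cL 4)
/-- The outer involution. -/
noncomputable def delta : Equiv.Perm (Fin 112) := permOf 112 codeDelta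

/-- The standard copy. -/
noncomputable def Lstd : Subgroup (Equiv.Perm (Fin 112)) :=
  Subgroup.closure ({a0, b0, c0, f0, g0} : Set (Equiv.Perm (Fin 112)))

/-- The transversal codes. -/
def allT : List ℕ := first ++ chainH.flatMap Prod.snd

theorem allT_mem : ∀ c ∈ allT, valid 112 c = true ∧ permOf 112 c ∈ GP := by
  intro c hc
  rcases List.mem_append.1 hc with h | h
  · exact mem_needG (by simp [needG, h])
  · exact ⟨(mem_of_producedBy producedH c h).1, genH_le (mem_of_producedBy producedH c h).2⟩

/-- A code is the product of a word in the transversals. -/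
def inGP (c : ℕ) (w : List ℕ) : Bool :=
  valid 112 c && w.all (fun i => Nat.blt i allT.length) && eqW 112 [c] (wordCodes allT w)

theorem inGP_sound {c : ℕ} {w : List ℕ} (h : inGP c w = true) :
    valid 112 c = true ∧ permOf 112 c ∈ GP := by
  simp only [inGP, Bool.and_eq_true, List.all_eq_true, Nat.blt_eq] at h
  obtain ⟨⟨hv, hb⟩, he⟩ := h
  have hw : ∀ d ∈ wordCodes allT w, d ∈ allT := by
    intro d hd
    obtain ⟨i, hi, rfl⟩ := List.mem_map.1 hd
    rw [List.getD_eq_getElem _ _ (hb i hi)]
    exact List.getElem_mem _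
  refine ⟨hv, ?_⟩
  rw [permOf_eq_prodW hv (fun d hd => (allT_mem d (hw d hd)).1) he]
  exact prodW_mem _ fun d hd => (allT_mem d (hw d hd)).2

theorem std_in_GP : ((codesL ++ [codeCD]).zip wordsK).all (fun e => inGP e.1 e.2) = true ∧
    wordsK.length = 6 ∧ codesL.length = 5 := by
  decide +kernel

theorem codeK_mem : ∀ c ∈ codesL ++ [codeCD], valid 112 c = true ∧ permOf 112 c ∈ GP := by
  obtain ⟨h, h6, h5⟩ := std_in_GP
  intro c hc
  obtain ⟨k, hk, rfl⟩ := List.getElem_of_mem hc
  refine inGP_sound (w := wordsK[k]'(by simp only [List.length_append, List.length_singleton, h5] at hk; omega))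
    (List.all_eq_true.1 h ((codesL ++ [codeCD])[k], wordsK[k]'(by simp only [List.length_append, List.length_singleton, h5] at hk; omega)) ?_)
  rw [List.mem_iff_getElem]
  refine ⟨k, ?_, List.getElem_zip⟩
  simp only [List.length_zip, List.length_append, List.length_singleton, h5, h6] at hk ⊢
  omega

theorem cL_mem {i : ℕ} (hi : i < 5) : cL i ∈ codesL := by
  rw [cL, List.getD_eq_getElem _ _ (by rw [std_in_GP.2.2]; exact hi)]
  exact List.getElem_mem _

theorem cL_valid {i : ℕ} (hi : i < 5) : valid 112 (cL i) = true :=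
  (codeK_mem _ (List.mem_append_left _ (cL_mem hi))).1

theorem Lstd_eq : Lstd = genGroup 112 codesL := by
  have e : ({a0, b0, c0, f0, g0} : Set (Equiv.Perm (Fin 112))) = {σ | ∃ c ∈ codesL, σ = permOf 112 c} := by
    have hl : codesL = [cL 0, cL 1, cL 2, cL 3, cL 4] := by decide +kernel
    rw [hl]
    ext σ
    simp [a0, b0, c0, f0, g0]
  rw [Lstd, genGroup, e]

theorem Lstd_le : Lstd ≤ GP := by
  rw [Lstd_eq]
  exact genGroup_le fun c hc => (codeK_mem c (List.mem_append_left _ hc)).2

theorem chainL_ok : chainOK 112 [] chainL = true ∧ chainProd chainL = 20160 ∧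
    producedBy codesL opsL (chainL.flatMap Prod.snd) = true := by
  decide +kernel

theorem card_Lstd : 20160 ≤ Nat.card Lstd := by
  obtain ⟨h1, h2, h3⟩ := chainL_ok
  rw [← h2, Lstd_eq]
  exact card_ge_chain (genGroup 112 codesL) h1
    (fun e he c hc => (mem_of_producedBy h3 c (List.mem_flatMap.2 ⟨e, he, hc⟩)).2) _
    (by simp)

/-- The check of a relation between words. -/
def relOK (L L' : List ℕ) : Bool := eqW 112 L L'

theorem rel_check :
    relOK [cL 0, cL 0] [] = true ∧ relOK [cL 1, cL 1] [] = true ∧ relOK [cL 2, cL 2] [] = true ∧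
    relOK [cL 3, cL 3] [] = true ∧ relOK [cL 4, cL 4] [] = true ∧ relOK [cL 0] [] = false ∧
    relOK [cL 0, cL 1] [] = false ∧ relOK [cL 1, cL 2] [] = false ∧ relOK [cL 1, cL 3] [] = false ∧
    relOK [cL 4, cL 1] [] = false ∧
    relOK ((List.replicate 5 [cL 0, cL 1]).flatten) [] = true ∧
    relOK ((List.replicate 3 [cL 1, cL 2]).flatten) [] = true ∧
    relOK ((List.replicate 3 [cL 1, cL 3]).flatten) [] = true ∧
    relOK ((List.replicate 3 [cL 4, cL 1]).flatten) [] = true ∧
    relOK ((List.replicate 4 [cL 3, cL 4]).flatten) [] = true ∧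
    relOK ((List.replicate 2 [cL 3, cL 4]).flatten) [cL 0] = true ∧
    relOK [cL 0, cL 2] [cL 2, cL 0] = true ∧ relOK [cL 0, cL 3] [cL 3, cL 0] = true ∧
    relOK [cL 0, cL 4] [cL 4, cL 0] = true ∧ relOK [cL 2, cL 3] [cL 3, cL 2] = true ∧
    relOK [cL 2, cL 4] [cL 4, cL 2] = true ∧
    relOK ((List.replicate 5 [cL 0, cL 1, cL 2, cL 3]).flatten) [] = true ∧
    relOK ((List.replicate 5 [cL 1, cL 3, cL 4]).flatten) [] = true := by
  decide +kernel

theorem prodW_replicate (L : List ℕ) : ∀ k, prodW 112 (List.replicate k L).flatten = prodW 112 L ^ k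
  | 0 => rfl
  | k + 1 => by
    rw [List.replicate_succ, List.flatten_cons, pow_succ', ← prodW_replicate L k]
    simp [prodW]

theorem rel_eq {L L' : List ℕ} (h : relOK L L' = true) (hL : ∀ c ∈ L, valid 112 c = true)
    (hL' : ∀ c ∈ L', valid 112 c = true) : prodW 112 L = prodW 112 L' :=
  (eqW_iff hL hL').1 h

theorem rel_ne {L L' : List ℕ} (h : relOK L L' = false) (hL : ∀ c ∈ L, valid 112 c = true)
    (hL' : ∀ c ∈ L', valid 112 c = true) : prodW 112 L ≠ prodW 112 L' := fun e => by
  have : relOK L L' = true := (eqW_iff hL hL').2 e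
  rw [h] at this
  exact Bool.noConfusion this

theorem rel_std : Rel5 a0 b0 c0 f0 g0 := by
  obtain ⟨h1, h2, h3, h4, h5, n1, n2, n3, n4, n5, p1, p2, p3, p4, p5, p6, q1, q2, q3, q4, q5, r1, r2⟩ :=
    rel_check
  have v0 := cL_valid (i := 0) (by norm_num)
  have v1 := cL_valid (i := 1) (by norm_num)
  have v2 := cL_valid (i := 2) (by norm_num)
  have v3 := cL_valid (i := 3) (by norm_num)
  have v4 := cL_valid (i := 4) (by norm_num)
  have vv : ∀ (L : List ℕ), (∀ c ∈ L, valid 112 c = true) → ∀ k, ∀ c ∈ (List.replicate k L).flatten,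
      valid 112 c = true := by
    intro L hL k c hc
    simp only [List.mem_flatten, List.mem_replicate] at hc
    obtain ⟨l, ⟨-, rfl⟩, hc⟩ := hc
    exact hL c hc
  constructor
  · simpa [prodW, a0] using rel_eq h1 (by simp [v0]) (by simp)
  · simpa [prodW, b0] using rel_eq h2 (by simp [v1]) (by simp)
  · simpa [prodW, c0] using rel_eq h3 (by simp [v2]) (by simp)
  · simpa [prodW, f0] using rel_eq h4 (by simp [v3]) (by simp)
  · simpa [prodW, g0] using rel_eq h5 (by simp [v4]) (by simp)
  · simpa [prodW, a0] using rel_ne n1 (by simp [v0]) (by simp)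
  · simpa [prodW, a0, b0] using rel_ne n2 (by simp [v0, v1]) (by simp)
  · simpa [prodW, b0, c0] using rel_ne n3 (by simp [v1, v2]) (by simp)
  · simpa [prodW, b0, f0] using rel_ne n4 (by simp [v1, v3]) (by simp)
  · simpa [prodW, g0, b0] using rel_ne n5 (by simp [v4, v1]) (by simp)
  · have := rel_eq p1 (vv _ (by simp [v0, v1]) _) (by simp)
    rw [prodW_replicate] at this; simpa [prodW, a0, b0] using this
  · have := rel_eq p2 (vv _ (by simp [v1, v2]) _) (by simp)
    rw [prodW_replicate] at this; simpa [prodW, b0, c0] using this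
  · have := rel_eq p3 (vv _ (by simp [v1, v3]) _) (by simp)
    rw [prodW_replicate] at this; simpa [prodW, b0, f0] using this
  · have := rel_eq p4 (vv _ (by simp [v4, v1]) _) (by simp)
    rw [prodW_replicate] at this; simpa [prodW, g0, b0] using this
  · have := rel_eq p5 (vv _ (by simp [v3, v4]) _) (by simp)
    rw [prodW_replicate] at this; simpa [prodW, f0, g0] using this
  · have := rel_eq p6 (vv _ (by simp [v3, v4]) _) (by simp [v0])
    rw [prodW_replicate] at this; simpa [prodW, f0, g0, a0] using this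
  · simpa [prodW, a0, c0] using rel_eq q1 (by simp [v0, v2]) (by simp [v0, v2])
  · simpa [prodW, a0, f0] using rel_eq q2 (by simp [v0, v3]) (by simp [v0, v3])
  · simpa [prodW, a0, g0] using rel_eq q3 (by simp [v0, v4]) (by simp [v0, v4])
  · simpa [prodW, c0, f0] using rel_eq q4 (by simp [v2, v3]) (by simp [v2, v3])
  · simpa [prodW, c0, g0] using rel_eq q5 (by simp [v2, v4]) (by simp [v2, v4])
  · have := rel_eq r1 (vv _ (by simp [v0, v1, v2, v3]) _) (by simp)
    rw [prodW_replicate] at this; simpa [prodW, a0, b0, c0, f0, mul_assoc] using this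
  · have := rel_eq r2 (vv _ (by simp [v1, v3, v4]) _) (by simp)
    rw [prodW_replicate] at this; simpa [prodW, b0, f0, g0, mul_assoc] using this

end CfsgLib.InvChar.SuzUniq
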