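import Cfsg.Agent.Lib.InvChar.SuzUniq.ModelLines

/-!
An orbit of 56 points, with an element of order five at each point, meets every line twice.
-/

set_option autoImplicit false
set_option maxRecDepth 10000
set_option Elab.async false

open scoped Pointwise

namespace CfsgLib.InvChar.SuzUniq

open CfsgLib.KnownA.PermCert CfsgLib.KnownA.U4ThreeSchur CfsgLib.Recog.McLRank

/-- A fixed-point-free permutation of prime order five moves a multiple of five points. -/
theorem five_dvd_card {α : Type*} [DecidableEq α] (f : Equiv.Perm α) (A : Finset α)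
    (hA : ∀ a ∈ A, f a ∈ A) (h5 : f ^ 5 = 1) (hfree : ∀ a ∈ A, f a ≠ a) : 5 ∣ A.card := by
  by_contra hn
  have e : A.image f = A := Finset.eq_of_subset_of_card_le (Finset.image_subset_iff.2 hA)
    (by rw [Finset.card_image_of_injective _ f.injective])
  have hiff : ∀ a, f a ∈ A ↔ a ∈ A := fun a => ⟨fun h => by
    rw [← e, Finset.mem_image] at h
    obtain ⟨b, hb, hbe⟩ := h
    exact f.injective hbe ▸ hb, hA a⟩
  haveI : Fact (Nat.Prime 5) := ⟨by norm_num⟩
  let g : Equiv.Perm {a // a ∈ A} := f.subtypePerm hiff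
  have hg : g ^ 5 ^ 1 = 1 := by
    ext a
    simp [g, h5]
  obtain ⟨⟨a, ha⟩, hfa⟩ := Equiv.Perm.exists_fixed_point_of_prime (p := 5) (n := 1)
    (by rwa [Fintype.card_coe]) hg
  exact hfree a ha (congrArg Subtype.val hfa)

/-- The hypotheses on an orbit of half of the points. -/
structure HalfOrbit (L : Subgroup (Equiv.Perm (Fin 112))) (S : Finset (Fin 112)) : Prop where
  le : L ≤ GP
  card : S.card = 56
  inv : ∀ σ ∈ L, ∀ z, σ z ∈ S ↔ z ∈ S
  trans : ∀ x ∈ S, ∀ y ∈ S, ∃ σ ∈ L, σ x = y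
  trans' : ∀ x, x ∉ S → ∀ y, y ∉ S → ∃ σ ∈ L, σ x = y
  five : ∀ x, ∃ σ ∈ L, σ x = x ∧ σ ^ 5 = 1 ∧ σ ≠ 1

theorem HalfOrbit.compl {L : Subgroup (Equiv.Perm (Fin 112))} {S : Finset (Fin 112)}
    (h : HalfOrbit L S) : HalfOrbit L Sᶜ where
  le := h.le
  card := by rw [Finset.card_compl, Fintype.card_fin, h.card]
  inv := fun σ hσ z => by rw [Finset.mem_compl, Finset.mem_compl, h.inv σ hσ z]
  trans := fun x hx y hy => h.trans' x (Finset.mem_compl.1 hx) y (Finset.mem_compl.1 hy)
  trans' := fun x hx y hy =>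
    h.trans x (not_not.1 (Finset.mem_compl.not.1 hx)) y (not_not.1 (Finset.mem_compl.not.1 hy))
  five := h.five

/-- The number of neighbours in a set. -/
def nbS (S : Finset (Fin 112)) (x : Fin 112) : ℕ := (S.filter fun z => AdjX x z).card

variable {L : Subgroup (Equiv.Perm (Fin 112))} {S : Finset (Fin 112)}

theorem HalfOrbit.nbS_eq (h : HalfOrbit L S) {σ : Equiv.Perm (Fin 112)} (hσ : σ ∈ L) (x : Fin 112) :
    nbS S (σ x) = nbS S x := by
  symm
  refine Finset.card_bij (fun z _ => σ z) ?_ (fun a _ b _ e => σ.injective e) ?_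
  · intro z hz
    rw [Finset.mem_filter] at hz ⊢
    exact ⟨(h.inv σ hσ z).2 hz.1, (adj_GP (h.le hσ) x z).2 hz.2⟩
  · intro z hz
    rw [Finset.mem_filter] at hz
    obtain ⟨w, rfl⟩ := σ.surjective z
    exact ⟨w, Finset.mem_filter.2 ⟨(h.inv σ hσ w).1 hz.1, (adj_GP (h.le hσ) x w).1 hz.2⟩, rfl⟩

theorem HalfOrbit.five_dvd_nbS (h : HalfOrbit L S) (x : Fin 112) : 5 ∣ nbS S x := by
  obtain ⟨σ, hσ, hx, h5, h1⟩ := h.five x
  refine five_dvd_card σ _ (fun z hz => ?_) h5 (fun z hz e => ?_)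
  · rw [Finset.mem_filter] at hz ⊢
    refine ⟨(h.inv σ hσ z).2 hz.1, ?_⟩
    have := (adj_GP (h.le hσ) x z).2 hz.2
    rwa [hx] at this
  · exact five_fix (h.le hσ) h5 h1 hx e (Finset.mem_filter.1 hz).2

theorem nbS_add (S : Finset (Fin 112)) (x : Fin 112) : nbS S x + nbS Sᶜ x = 30 := by
  rw [nbS, nbS, ← Finset.card_union_of_disjoint]
  · rw [← adj_card x]
    congr 1
    ext z
    simp only [Finset.mem_union, Finset.mem_filter, Finset.mem_compl, Finset.mem_univ, true_and]
    tauto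
  · rw [Finset.disjoint_left]
    intro z hz hz'
    exact Finset.mem_compl.1 (Finset.mem_filter.1 hz').1 (Finset.mem_filter.1 hz).1

/-- Ten of the neighbours of a point of the orbit lie in it. -/
theorem HalfOrbit.nbS_ten (h : HalfOrbit L S) {x : Fin 112} (hx : x ∈ S) : nbS S x = 10 := by
  obtain ⟨y, hy⟩ : ∃ y, y ∈ Sᶜ := Finset.card_pos.1 (by rw [h.compl.card]; norm_num)
  have hy' := Finset.mem_compl.1 hy
  set a := nbS S x
  set b := nbS S y
  have ha : ∀ z ∈ S, nbS S z = a := fun z hz => by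
    obtain ⟨σ, hσ, rfl⟩ := h.trans x hx z hz
    exact h.nbS_eq hσ x
  have hb : ∀ z ∈ Sᶜ, nbS S z = b := fun z hz => by
    obtain ⟨σ, hσ, rfl⟩ := h.trans' y hy' z (Finset.mem_compl.1 hz)
    exact h.nbS_eq hσ y
  have hedge : 56 * (30 - a) = 56 * b := by
    have e1 : ∑ z ∈ S, nbS Sᶜ z = 56 * (30 - a) := by
      rw [Finset.sum_congr rfl (fun z hz => show nbS Sᶜ z = 30 - a by
        have := nbS_add S z; have := ha z hz; omega), Finset.sum_const, h.card, smul_eq_mul]
    have e2 : ∑ w ∈ Sᶜ, nbS S w = 56 * b := by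
      rw [Finset.sum_congr rfl hb, Finset.sum_const, h.compl.card, smul_eq_mul]
    rw [← e1, ← e2]
    simp only [nbS, Finset.card_filter]
    rw [Finset.sum_comm]
    exact Finset.sum_congr rfl fun w _ => Finset.sum_congr rfl fun z _ => by simp only [adj_comm]
  have hpath : ∑ w ∈ Finset.univ.filter (fun w => AdjX x w), nbS S w =
      30 + (2 * a + 10 * (55 - a)) := by
    have e1 : ∑ w ∈ Finset.univ.filter (fun w => AdjX x w), nbS S w =
        ∑ z ∈ S, (Finset.univ.filter fun w => AdjX x w ∧ AdjX z w).card := by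
      simp only [nbS, Finset.card_filter, Finset.sum_filter]
      rw [Finset.sum_comm]
      refine Finset.sum_congr rfl fun w _ => ?_
      by_cases hw : AdjX x w
      · rw [if_pos hw]
        exact Finset.sum_congr rfl fun z _ => by simp only [hw, true_and, adj_comm w z]
      · rw [if_neg hw]
        exact (Finset.sum_eq_zero fun z _ => by simp [hw]).symm
    rw [e1, ← Finset.add_sum_erase _ _ hx]
    congr 1
    · simp only [and_self]; exact adj_card x
    rw [Finset.sum_congr rfl (fun z hz => adj_common (Finset.mem_erase.1 hz).1.symm), Finset.sum_ite,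
      Finset.sum_const, Finset.sum_const, smul_eq_mul, smul_eq_mul]
    have ef : ((S.erase x).filter fun z => AdjX x z) = S.filter fun z => AdjX x z := by
      ext z
      simp only [Finset.mem_filter, Finset.mem_erase]
      exact ⟨fun ⟨⟨_, h1⟩, h2⟩ => ⟨h1, h2⟩, fun ⟨h1, h2⟩ => ⟨⟨fun e => adj_irrefl x (e ▸ h2), h1⟩, h2⟩⟩
    have hs : ((S.erase x).filter fun z => AdjX x z).card +
        ((S.erase x).filter fun z => ¬ AdjX x z).card = 55 := by
      rw [Finset.card_filter_add_card_filter_not, Finset.card_erase_of_mem hx, h.card]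
    have hef : ((S.erase x).filter fun z => AdjX x z).card = a := congrArg Finset.card ef
    rw [hef] at hs ⊢
    omega
  have hsplit : ∑ w ∈ Finset.univ.filter (fun w => AdjX x w), nbS S w = a * a + (30 - a) * b := by
    rw [← Finset.sum_filter_add_sum_filter_not _ (fun w => w ∈ S)]
    rw [Finset.sum_congr rfl (fun w hw => ha w (Finset.mem_filter.1 hw).2),
      Finset.sum_congr rfl (fun w hw => hb w (Finset.mem_compl.2 (Finset.mem_filter.1 hw).2)),
      Finset.sum_const, Finset.sum_const, smul_eq_mul, smul_eq_mul]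
    have c1 : ((Finset.univ.filter fun w => AdjX x w).filter fun w => w ∈ S).card = a := by
      rw [show a = (S.filter fun z => AdjX x z).card from rfl]
      congr 1
      ext z
      simp [and_comm]
    have hs := Finset.card_filter_add_card_filter_not
      (s := Finset.univ.filter fun w => AdjX x w) (fun w => w ∈ S)
    rw [adj_card, c1] at hs
    rw [c1, show ((Finset.univ.filter fun w => AdjX x w).filter fun w => ¬ w ∈ S).card = 30 - a by omega]
  obtain ⟨q, hq⟩ := h.five_dvd_nbS x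
  have ha30 : a ≤ 30 := by have := nbS_add S x; omega
  have hq6 : q ≤ 6 := by omega
  rw [hsplit] at hpath
  have hb' : b = 30 - a := by omega
  rw [hb', show a = 5 * q from hq] at hpath
  interval_cases q <;> omega

/-- The lines through a point meeting the orbit in a given number of points. -/
def linesJ (S : Finset (Fin 112)) (x : Fin 112) (j : ℕ) : Finset (Finset (Fin 112)) :=
  LinesF.filter fun ℓ => x ∈ ℓ ∧ (ℓ ∩ S).card = j

theorem HalfOrbit.line_map (h : HalfOrbit L S) {σ : Equiv.Perm (Fin 112)} (hσ : σ ∈ L)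
    {x : Fin 112} {j : ℕ} {ℓ : Finset (Fin 112)} (hℓ : ℓ ∈ linesJ S x j) :
    σ • ℓ ∈ linesJ S (σ x) j := by
  rw [linesJ, Finset.mem_filter] at hℓ ⊢
  refine ⟨mem_LinesF.2 (lines_GP (h.le hσ) (mem_LinesF.1 hℓ.1)), Finset.mem_image_of_mem _ hℓ.2.1, ?_⟩
  rw [← hℓ.2.2]
  show ((ℓ.image σ) ∩ S).card = _
  rw [← Finset.card_image_of_injective (ℓ ∩ S) σ.injective]
  congr 1
  ext z
  simp only [Finset.mem_inter, Finset.mem_image]
  constructor
  · rintro ⟨⟨w, hw, rfl⟩, hz⟩
    exact ⟨w, ⟨hw, (h.inv σ hσ w).1 hz⟩, rfl⟩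
  · rintro ⟨w, ⟨hw, hwS⟩, rfl⟩
    exact ⟨⟨w, hw, rfl⟩, (h.inv σ hσ w).2 hwS⟩

theorem HalfOrbit.five_dvd_linesJ (h : HalfOrbit L S) (x : Fin 112) (j : ℕ) :
    5 ∣ (linesJ S x j).card := by
  obtain ⟨σ, hσ, hx, h5, h1⟩ := h.five x
  refine five_dvd_card (MulAction.toPerm σ) _ (fun ℓ hℓ => ?_) ?_ (fun ℓ hℓ e => ?_)
  · have := h.line_map hσ hℓ
    rwa [hx] at this
  · rw [show (MulAction.toPerm σ : Equiv.Perm (Finset (Fin 112))) =
      MulAction.toPermHom (Equiv.Perm (Fin 112)) (Finset (Fin 112)) σ from rfl, ← map_pow, h5, map_one]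
  · obtain ⟨hℓL, hxℓ, -⟩ := Finset.mem_filter.1 hℓ
    have himg : ℓ.image σ = ℓ := e
    have hno : ∀ z ∈ ℓ.erase x, σ z ≠ z := by
      intro z hz hfz
      obtain ⟨hzx, hzℓ⟩ := Finset.mem_erase.1 hz
      refine five_fix (h.le hσ) h5 h1 hx hfz ?_
      by_contra hna
      have hc := lines_through x z
      rw [if_neg (Ne.symm hzx), if_neg hna, Finset.card_eq_zero, Finset.filter_eq_empty_iff] at hc
      exact hc hℓL ⟨hxℓ, hzℓ⟩
    have hd := five_dvd_card σ (ℓ.erase x) (fun z hz => by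
      obtain ⟨hzx, hzℓ⟩ := Finset.mem_erase.1 hz
      refine Finset.mem_erase.2 ⟨fun e' => hzx (σ.injective (e'.trans hx.symm)), ?_⟩
      rw [← himg]; exact Finset.mem_image_of_mem _ hzℓ) h5 hno
    rw [Finset.card_erase_of_mem hxℓ, line_card hℓL] at hd
    omega

/-- The numbers of lines of each sort through a point of the orbit. -/
theorem HalfOrbit.line_types (h : HalfOrbit L S) {x : Fin 112} (hx : x ∈ S) :
    (linesJ S x 2).card + (linesJ S x 1).card + (linesJ S x 3).card = 10 ∧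
    ((linesJ S x 3).card = 0 → (linesJ S x 2).card = 10) ∧
    ((linesJ S x 3).card ≠ 0 → (linesJ S x 3).card = 5) := by
  set A := LinesF.filter fun ℓ => x ∈ ℓ
  have hA : A.card = 10 := by
    have := lines_through x x
    rw [if_pos rfl] at this
    rw [← this]
    congr 1
    ext ℓ
    simp [A]
  have hmaps : ∀ ℓ ∈ A, (ℓ ∩ S).card ∈ Finset.Icc 1 4 := fun ℓ hℓ => by
    rw [Finset.mem_filter] at hℓ
    refine Finset.mem_Icc.2 ⟨Finset.card_pos.2 ⟨x, Finset.mem_inter.2 ⟨hℓ.2, hx⟩⟩, ?_⟩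
    rw [← line_card hℓ.1]
    exact Finset.card_le_card Finset.inter_subset_left
  have hfib : ∀ j, (A.filter fun ℓ => (ℓ ∩ S).card = j) = linesJ S x j := fun j => by
    rw [linesJ, Finset.filter_filter]
  have s1 := Finset.card_eq_sum_card_fiberwise hmaps
  have hsum : ∑ ℓ ∈ A, (ℓ ∩ S).card = 20 := by
    have e : ∑ ℓ ∈ A, (ℓ ∩ S).card = ∑ z ∈ S, (LinesF.filter fun ℓ => x ∈ ℓ ∧ z ∈ ℓ).card := by
      simp only [Finset.card_filter, A, Finset.sum_filter]
      rw [Finset.sum_comm]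
      refine Finset.sum_congr rfl fun ℓ _ => ?_
      by_cases hl : x ∈ ℓ
      · rw [if_pos hl, Finset.inter_comm, ← Finset.filter_mem_eq_inter, Finset.card_filter]
        exact Finset.sum_congr rfl fun z _ => by simp [hl]
      · rw [if_neg hl]
        exact (Finset.sum_eq_zero fun z _ => by simp [hl]).symm
    rw [e, ← Finset.add_sum_erase _ _ hx, lines_through, if_pos rfl,
      Finset.sum_congr rfl (fun z hz => by rw [lines_through, if_neg (Finset.mem_erase.1 hz).1.symm]),
      Finset.sum_boole, Nat.cast_id]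
    have : ((S.erase x).filter fun z => AdjX x z) = S.filter fun z => AdjX x z := by
      ext z
      simp only [Finset.mem_filter, Finset.mem_erase]
      exact ⟨fun ⟨⟨_, h1⟩, h2⟩ => ⟨h1, h2⟩, fun ⟨h1, h2⟩ => ⟨⟨fun e => adj_irrefl x (e ▸ h2), h1⟩, h2⟩⟩
    rw [this, show (S.filter fun z => AdjX x z).card = 10 from h.nbS_ten hx]
  rw [← Finset.sum_fiberwise_of_maps_to hmaps] at hsum
  have hJ : ∀ j, ∑ ℓ ∈ A with (ℓ ∩ S).card = j, (ℓ ∩ S).card = (linesJ S x j).card * j := fun j => by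
    rw [Finset.sum_congr rfl (fun ℓ hℓ => (Finset.mem_filter.1 hℓ).2), Finset.sum_const, hfib,
      smul_eq_mul]
  simp only [hJ] at hsum
  simp only [hfib, hA] at s1
  have e4 : Finset.Icc 1 4 = ({1, 2, 3, 4} : Finset ℕ) := by decide
  rw [e4] at hsum s1
  simp only [Finset.sum_insert, Finset.mem_insert, Finset.mem_singleton, Finset.sum_singleton,
    OfNat.ofNat_ne_one, Nat.reduceEqDiff, or_self, not_false_eq_true] at hsum s1
  have := h.five_dvd_linesJ x 1
  have := h.five_dvd_linesJ x 2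
  have := h.five_dvd_linesJ x 3
  have := h.five_dvd_linesJ x 4
  omega

theorem HalfOrbit.lines_two (h : HalfOrbit L S) {x : Fin 112} (hx : x ∈ S)
    {ℓ : Finset (Fin 112)} (hℓ : ℓ ∈ LinesF) (hxℓ : x ∈ ℓ) : (ℓ ∩ S).card = 2 := by
  have hc : (linesJ S x 3).card = 0 := by
    by_contra hne
    have h5 : ∀ z ∈ S, (linesJ S z 3).card = 5 := by
      intro z hz
      obtain ⟨σ, hσ, rfl⟩ := h.trans x hx z hz
      refine (h.line_types hz).2.2 fun h0 => hne ?_
      rw [Finset.card_eq_zero] at h0 ⊢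
      exact Finset.eq_empty_of_forall_notMem fun ℓ hℓ =>
        Finset.notMem_empty _ (h0 ▸ h.line_map hσ hℓ)
    have e1 : ∑ z ∈ S, (linesJ S z 3).card = 280 := by
      rw [Finset.sum_congr rfl h5, Finset.sum_const, h.card, smul_eq_mul]
    have e2 : ∑ z ∈ S, (linesJ S z 3).card =
        (LinesF.filter fun ℓ => (ℓ ∩ S).card = 3).card * 3 := by
      simp only [linesJ, Finset.card_filter, Finset.sum_mul]
      rw [Finset.sum_comm]
      refine Finset.sum_congr rfl fun ℓ _ => ?_
      by_cases h3 : (ℓ ∩ S).card = 3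
      · rw [if_pos h3, one_mul]
        conv_rhs => rw [← h3, Finset.inter_comm, ← Finset.filter_mem_eq_inter, Finset.card_filter]
        exact Finset.sum_congr rfl fun z _ => by simp [h3]
      · rw [if_neg h3, zero_mul]
        exact Finset.sum_eq_zero fun z _ => by simp [h3]
    omega
  obtain ⟨hsum, h2, -⟩ := h.line_types hx
  have hall : linesJ S x 2 = LinesF.filter fun m => x ∈ m := by
    refine Finset.eq_of_subset_of_card_le (fun m hm => ?_) ?_
    · rw [linesJ, Finset.mem_filter] at hm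
      exact Finset.mem_filter.2 ⟨hm.1, hm.2.1⟩
    · have := lines_through x x
      rw [if_pos rfl] at this
      rw [h2 hc, ← this]
      exact le_of_eq (congrArg Finset.card (by ext m; simp))
  have hmem : ℓ ∈ linesJ S x 2 := hall ▸ Finset.mem_filter.2 ⟨hℓ, hxℓ⟩
  exact (Finset.mem_filter.1 hmem).2.2

/-- The orbit meets every line twice. -/
theorem HalfOrbit.twice (h : HalfOrbit L S) : Twice S := by
  intro ℓ hℓ
  have hℓ' := mem_LinesF.2 hℓ
  by_cases hex : ∃ x ∈ ℓ, x ∈ S
  · obtain ⟨x, hxℓ, hxS⟩ := hex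
    exact h.lines_two hxS hℓ' hxℓ
  · exfalso
    obtain ⟨x, hx⟩ := Finset.card_pos.1 (by rw [line_card hℓ']; norm_num : 0 < ℓ.card)
    have h2 := h.compl.lines_two (Finset.mem_compl.2 fun hS => hex ⟨x, hx, hS⟩) hℓ' hx
    rw [show ℓ ∩ Sᶜ = ℓ from Finset.inter_eq_left.2 fun z hz =>
      Finset.mem_compl.2 fun hS => hex ⟨z, hz, hS⟩, line_card hℓ'] at h2
    omega

end CfsgLib.InvChar.SuzUniq
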