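import Cfsg.Agent.Lib.InvChar.SuzUniq.Frame
import Cfsg.Agent.Lib.InvChar.SuzUniq.ModelStd
import Cfsg.Agent.Lib.Recog.McL275.Natural
import Cfsg.Agent.Lib.Invol.Simple
import Cfsg.Agent.Lib.U43.Model

/-!
# The projection of `C(y)` onto the model with `L` going to the standard copy
-/

set_option autoImplicit false
set_option linter.unusedSectionVars false

namespace CfsgLib.InvChar.SuzUniq

open Subgroup CfsgLib.KnownA.U4ThreeSchur

universe u

/-- The facts about the permutation model that the uniqueness proof uses. -/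
structure Cert : Prop where
  normalise : ∀ L : Subgroup (Equiv.Perm (Fin 112)), L ≤ GP → Nat.card L = 20160 →
    (∀ s ∈ L, orderOf s = 5 → ∀ x ∈ L, x * s = s * x → x ∈ zpowers s) →
    ∃ p, (∀ s ∈ GP, p * s * p⁻¹ ∈ GP) ∧ L.map (MulAut.conj p).toMonoidHom = Lstd
  outer : ∀ p, (∀ s ∈ GP, p * s * p⁻¹ ∈ GP) → (∀ s ∈ Lstd, p * s * p⁻¹ ∈ Lstd) →
    (∃ l ∈ Lstd, ∃ s ∈ Lstd, (orderOf s = 5 ∨ orderOf s = 7) ∧ l * p * s = s * (l * p)) ∨
      ∃ h ∈ GP, h * p = delta
  delta_sq : delta * delta = 1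
  delta_not : delta ∉ GP
  delta_a : delta * a0 = a0 * delta
  delta_b : delta * b0 = b0 * delta
  delta_f : delta * f0 = f0 * delta
  delta_g : delta * g0 = g0 * delta
  delta_cd : (c0 * delta) ^ 4 = a0
  delta_w : (b0 * c0 * delta * c0 * delta) ^ 5 = 1
  delta_gen : GP ≤ closure ({a0, b0, c0, f0, g0, delta} : Set (Equiv.Perm (Fin 112)))
  index : ∀ (H : Type u) [Group H] [Finite H] (a b c d f g : H), Rel5 a b c f g → d * d = 1 →
    d * a = a * d → d * b = b * d → d * f = f * d → d * g = g * d → (c * d) ^ 4 = a →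
    (b * c * d * c * d) ^ 5 = 1 →
    Nat.card (closure ({a, b, c, d, f, g} : Set H)) ≤
      324 * Nat.card (closure ({a, b, c, f, g} : Set H))

/-- The model has trivial centre. -/
theorem GP_center : center GP = ⊥ := by
  have := CfsgLib.U43.model_facts.2.1
  refine CfsgLib.Invol.center_eq_bot_of_simple fun h => ?_
  let : CommGroup GP := { (inferInstance : Group GP) with mul_comm := h.is_comm.comm }
  have hp := IsSimpleGroup.prime_card (α := GP)
  rw [CfsgLib.U43.model_facts.1] at hp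
  norm_num at hp

variable {G : Type u} [Group G] [Finite G]

/-- The centraliser of `y`. -/
abbrev UFrame.C (F : UFrame G) : Subgroup G := centralizer ({F.y} : Set G)

/-- A projection onto the model taking `L` to the standard copy. -/
structure Proj (F : UFrame G) where
  /-- The map, with junk values outside `C(y)`. -/
  pv : G → Equiv.Perm (Fin 112)
  mul : ∀ g ∈ F.C, ∀ h ∈ F.C, pv (g * h) = pv g * pv h
  mem : ∀ g ∈ F.C, pv g ∈ GP
  surj : ∀ s ∈ GP, ∃ g ∈ F.C, pv g = s
  ker : ∀ g ∈ F.C, (pv g = 1 ↔ g ∈ zpowers F.y)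
  L_mem : ∀ l ∈ F.L, pv l ∈ Lstd
  L_surj : ∀ s ∈ Lstd, ∃ l ∈ F.L, pv l = s
  L_inj : ∀ l ∈ F.L, pv l = 1 → l = 1

namespace UFrame

variable (F : UFrame G)

theorem L_le : F.L ≤ F.C := fun l hl => mem_centralizer_singleton_iff.2 (F.y_comm l hl).symm

theorem y_mem : F.y ∈ F.C := mem_centralizer_singleton_iff.2 rfl

theorem centerL {x : G} (hx : x ∈ F.L) (hc : ∀ l ∈ F.L, x * l = l * x) : x = 1 := by
  have := F.simpleL
  have hna : ¬ IsMulCommutative F.L := fun h => by
    let : CommGroup F.L := { (inferInstance : Group F.L) with mul_comm := h.is_comm.comm }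
    have hp := IsSimpleGroup.prime_card (α := F.L)
    rw [F.cardL] at hp
    norm_num at hp
  have h1 : (⟨x, hx⟩ : F.L) ∈ center F.L :=
    Subgroup.mem_center_iff.2 fun g => Subtype.ext (hc g g.2).symm
  rw [CfsgLib.Invol.center_eq_bot_of_simple hna, mem_bot] at h1
  exact congrArg Subtype.val h1

end UFrame

/-- The projection exists. -/
theorem exists_proj (M : Cert.{u}) (F : UFrame G) : Nonempty (Proj F) := by
  classical
  let j : F.L →* Equiv.Perm (Fin 112) := (GP.subtype.comp F.φ).comp (Subgroup.inclusion F.L_le)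
  have hj : Function.Injective j := (injective_iff_map_eq_one j).2 fun l hl => by
    have h1 : F.φ (Subgroup.inclusion F.L_le l) = 1 := Subtype.ext hl
    obtain ⟨k, hk⟩ := (F.φ_ker _).1 h1
    refine Subtype.ext (F.centerL l.2 fun m hm => ?_)
    have hc : Commute F.y m := F.y_comm m hm
    have := (hc.zpow_left k).eq
    rw [show F.y ^ k = (l : G) from hk] at this
    exact this
  have hcard : Nat.card j.range = 20160 := by
    rw [← Nat.card_congr (MonoidHom.ofInjective hj).toEquiv, F.cardL]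
  obtain ⟨p, hp, hpL⟩ := M.normalise j.range (by rintro _ ⟨l, rfl⟩; exact (F.φ _).2) hcard (by
    rintro _ ⟨x, rfl⟩ ho _ ⟨g, rfl⟩ he
    rw [orderOf_injective j hj] at ho
    obtain ⟨k, hk⟩ := F.selfL x x.2 (Or.inl (by rw [Subgroup.orderOf_coe]; exact ho)) g g.2
      (congrArg Subtype.val (hj (by rw [map_mul, map_mul]; exact he) : g * x = x * g))
    exact ⟨k, by
      show j x ^ k = j g
      rw [← map_zpow]
      exact congrArg j (Subtype.ext (by rw [SubgroupClass.coe_zpow]; exact hk))⟩)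
  let pv : G → Equiv.Perm (Fin 112) := fun g =>
    if h : g ∈ F.C then p * (F.φ ⟨g, h⟩ : Equiv.Perm (Fin 112)) * p⁻¹ else 1
  have hpv : ∀ g (h : g ∈ F.C), pv g = p * (F.φ ⟨g, h⟩ : Equiv.Perm (Fin 112)) * p⁻¹ :=
    fun g h => dif_pos h
  have hGP : ∀ s ∈ GP, p⁻¹ * s * p ∈ GP := by
    intro s hs
    let f : GP → GP := fun r => ⟨p * r * p⁻¹, hp r r.2⟩
    have hf : Function.Injective f := fun r r' h =>
      Subtype.ext (mul_left_cancel (mul_right_cancel (congrArg Subtype.val h)))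
    obtain ⟨r, hr⟩ := (Finite.injective_iff_surjective.1 hf) ⟨s, hs⟩
    have hr' : p * (r : Equiv.Perm (Fin 112)) * p⁻¹ = s := congrArg Subtype.val hr
    rw [← hr', show p⁻¹ * (p * (r : Equiv.Perm (Fin 112)) * p⁻¹) * p = r by group]
    exact r.2
  refine ⟨{
    pv := pv
    mul := fun g hg h hh => by
      rw [hpv _ hg, hpv _ hh, hpv _ (mul_mem hg hh),
        show (⟨g * h, mul_mem hg hh⟩ : F.C) = ⟨g, hg⟩ * ⟨h, hh⟩ from rfl, map_mul, Subgroup.coe_mul]
      group
    mem := fun g hg => by rw [hpv g hg]; exact hp _ (F.φ _).2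
    surj := fun s hs => by
      obtain ⟨⟨g, hg⟩, hgs⟩ := F.φ_surj ⟨_, hGP s hs⟩
      refine ⟨g, hg, ?_⟩
      rw [hpv g hg, hgs]
      show p * (p⁻¹ * s * p) * p⁻¹ = s
      group
    ker := fun g hg => by
      rw [hpv g hg, conj_eq_one_iff, OneMemClass.coe_eq_one, F.φ_ker]
    L_mem := fun l hl => by
      rw [hpv l (F.L_le hl), ← hpL]
      exact ⟨j ⟨l, hl⟩, ⟨_, rfl⟩, rfl⟩
    L_surj := fun s hs => by
      rw [← hpL] at hs
      obtain ⟨_, ⟨⟨l, hl⟩, rfl⟩, rfl⟩ := hs
      exact ⟨l, hl, hpv l (F.L_le hl)⟩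
    L_inj := fun l hl h => by
      rw [hpv l (F.L_le hl), conj_eq_one_iff] at h
      exact congrArg Subtype.val ((injective_iff_map_eq_one j).1 hj ⟨l, hl⟩ h) }⟩

namespace Proj

variable {F : UFrame G} (P : Proj F)

theorem one : P.pv 1 = 1 := by
  have h := P.mul 1 (one_mem _) 1 (one_mem _)
  rw [one_mul] at h
  exact mul_left_cancel (by rw [mul_one, ← h])

theorem inv {g : G} (hg : g ∈ F.C) : P.pv g⁻¹ = (P.pv g)⁻¹ := by
  refine eq_inv_of_mul_eq_one_left ?_
  rw [← P.mul _ (inv_mem hg) _ hg, inv_mul_cancel, P.one]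

theorem pow {g : G} (hg : g ∈ F.C) (n : ℕ) : P.pv (g ^ n) = P.pv g ^ n := by
  induction n with
  | zero => rw [pow_zero, pow_zero, P.one]
  | succ n ih => rw [pow_succ, pow_succ, P.mul _ (pow_mem hg n) _ hg, ih]

theorem L_eq {l m : G} (hl : l ∈ F.L) (hm : m ∈ F.L) (h : P.pv l = P.pv m) : l = m := by
  refine mul_inv_eq_one.1 (P.L_inj _ (mul_mem hl (inv_mem hm)) ?_)
  rw [P.mul _ (F.L_le hl) _ (inv_mem (F.L_le hm)), P.inv (F.L_le hm), h, mul_inv_cancel]

/-- Two elements of the centraliser with one image differ by an element of `⟨y⟩`. -/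
theorem eq_mod {g h : G} (hg : g ∈ F.C) (hh : h ∈ F.C) (e : P.pv g = P.pv h) :
    g⁻¹ * h ∈ zpowers F.y := by
  rw [← P.ker _ (mul_mem (inv_mem hg) hh), P.mul _ (inv_mem hg) _ hh, P.inv hg, e, inv_mul_cancel]

end Proj

end CfsgLib.InvChar.SuzUniq
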