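import Cfsg.Agent.Lib.InvChar.SuzUniq.Proj

/-!
# The four group under `y`, and an outer involution inverting `y`
-/

set_option autoImplicit false
set_option linter.unusedSectionVars false

namespace CfsgLib.InvChar.SuzUniq

open Subgroup

universe u

variable {G : Type u} [Group G] [Finite G]

namespace UFrame

variable (F : UFrame G)

theorem y_inv : F.y⁻¹ = F.y * F.y :=
  inv_eq_of_mul_eq_one_right (by rw [← mul_assoc, F.y_three])

theorem E_inv {e : G} (he : e ∈ F.E) : e⁻¹ = e := inv_eq_of_mul_eq_one_right (F.sqE e he)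

theorem E_comm {a b : G} (ha : a ∈ F.E) (hb : b ∈ F.E) : a * b = b * a := by
  have h := F.E_inv (mul_mem ha hb)
  rw [mul_inv_rev, F.E_inv ha, F.E_inv hb] at h
  exact h.symm

/-- Every element of `E` is the identity, `t` or one of two others. -/
theorem E_cases {a b : G} (ha : a ∈ F.E) (hb : b ∈ F.E) (ha1 : a ≠ 1) (hb1 : b ≠ 1) (hab : a ≠ b)
    {x : G} (hx : x ∈ F.E) : x = 1 ∨ x = a ∨ x = b ∨ x = a * b := by
  by_contra! hc
  obtain ⟨h1, h2, h3, h4⟩ := hc
  have n1 : a * b ≠ 1 := fun e => hab (by rw [← inv_eq_of_mul_eq_one_right e, F.E_inv ha])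
  have n2 : a * b ≠ a := fun e => hb1 (by simpa using e)
  have n3 : a * b ≠ b := fun e => ha1 (by simpa using e)
  let f : Fin 5 → F.E := ![1, ⟨a, ha⟩, ⟨b, hb⟩, ⟨a * b, mul_mem ha hb⟩, ⟨x, hx⟩]
  have hf : Function.Injective f := by
    intro i j h
    have h' := congrArg (Subtype.val : F.E → G) h
    fin_cases i <;> fin_cases j <;> simp [f] at h' ⊢ <;>
      first
        | exact absurd h' ha1 | exact absurd h'.symm ha1
        | exact absurd h' hb1 | exact absurd h'.symm hb1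
        | exact absurd h' hab | exact absurd h'.symm hab
        | exact absurd h' n1 | exact absurd h'.symm n1
        | exact absurd h' n2 | exact absurd h'.symm n2
        | exact absurd h' n3 | exact absurd h'.symm n3
        | exact absurd h' h1 | exact absurd h'.symm h1
        | exact absurd h' h2 | exact absurd h'.symm h2
        | exact absurd h' h3 | exact absurd h'.symm h3
        | exact absurd h' h4 | exact absurd h'.symm h4
  have := Nat.card_le_card_of_injective f hf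
  rw [F.cardE, Nat.card_fin] at this
  omega

theorem t1_facts : F.y * F.t * F.y⁻¹ ∈ F.E ∧ F.y * F.t * F.y⁻¹ ≠ 1 ∧ F.y * F.t * F.y⁻¹ ≠ F.t :=
  ⟨F.y_norm _ F.t_mem, fun e => F.t_ne (conj_eq_one_iff.1 e), F.y_move⟩

theorem t2_eq : F.y * (F.y * F.t * F.y⁻¹) * F.y⁻¹ = F.t * (F.y * F.t * F.y⁻¹) := by
  obtain ⟨h1, h2, h3⟩ := F.t1_facts
  rcases F.E_cases F.t_mem h1 F.t_ne h2 h3.symm (F.y_norm _ h1) with h | h | h | h
  · exact absurd (conj_eq_one_iff.1 h) h2
  · exfalso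
    refine h3 ?_
    calc F.y * F.t * F.y⁻¹ = F.y * (F.y * (F.y * F.t * F.y⁻¹) * F.y⁻¹) * F.y⁻¹ := by rw [h]
      _ = (F.y * F.y * F.y) * F.t * (F.y * F.y * F.y)⁻¹ := by group
      _ = F.t := by rw [F.y_three]; group
  · exact absurd (mul_left_cancel (mul_right_cancel h)) h3
  · exact h

/-- `y` fixes only the identity in `E`. -/
theorem y_fix {e : G} (he : e ∈ F.E) (h : F.y * e = e * F.y) : e = 1 := by
  obtain ⟨h1, h2, h3⟩ := F.t1_facts
  have hc : F.y * e * F.y⁻¹ = e := by rw [h, mul_inv_cancel_right]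
  rcases F.E_cases F.t_mem h1 F.t_ne h2 h3.symm he with e' | e' | e' | e' <;> rw [e'] at hc
  · exact e'
  · exact absurd hc h3
  · exact absurd (mul_left_cancel (mul_right_cancel hc)) h3
  · exfalso
    have : F.y * F.t * F.y⁻¹ * (F.y * (F.y * F.t * F.y⁻¹) * F.y⁻¹) = F.t * (F.y * F.t * F.y⁻¹) := by
      rw [← hc]; group
    rw [F.t2_eq, ← mul_assoc, F.E_comm h1 F.t_mem, mul_assoc, F.sqE _ h1, mul_one] at this
    exact h2 (by simpa using this)

theorem σ_inv : F.σ⁻¹ = F.σ := inv_eq_of_mul_eq_one_right F.σ_sq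

theorem σ_t : F.σ * F.t * F.σ⁻¹ = F.t := by rw [F.σ_mem, mul_inv_cancel_right]

theorem σ_norm {e : G} (he : e ∈ F.E) : F.σ * e * F.σ⁻¹ ∈ F.E := by
  by_cases h1 : e = 1
  · subst h1; simp
  by_cases h2 : e = F.t
  · subst h2; rw [F.σ_t]; exact he
  rw [F.σ_move e he h1 h2]
  exact mul_mem he F.t_mem

theorem E_centE {e : G} (he : e ∈ F.E) : e ∈ centralizer (F.E : Set G) :=
  mem_centralizer_iff.2 fun _ hf => F.E_comm hf he

theorem σ_out : F.σ ∉ centralizer (F.E : Set G) := fun h => by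
  obtain ⟨h1, h2, h3⟩ := F.t1_facts
  have := F.σ_move _ h1 h2 h3
  rw [← (mem_centralizer_iff.1 h) _ h1, mul_inv_cancel_right] at this
  exact F.t_ne (by simpa using this)

/-- `E` is the centraliser of `t` in the centraliser of `L`. -/
theorem cent_Lt {g : G} (hgt : g * F.t = F.t * g) (hL : ∀ l ∈ F.L, g * l = l * g) : g ∈ F.E := by
  by_cases hgE : g ∈ centralizer (F.E : Set G)
  · obtain ⟨e, he, l, hl, rfl⟩ := (F.cent_E g).1 hgE
    have : l = 1 := F.centerL hl fun m hm => mul_left_cancel (a := e) (by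
      rw [← mul_assoc, hL m hm, ← mul_assoc, ← mul_assoc, F.comm e he m hm])
    rw [this, mul_one]
    exact he
  · exfalso
    have : Fact (Nat.Prime 5) := ⟨by norm_num⟩
    obtain ⟨x, hx⟩ := exists_prime_orderOf_dvd_card' (G := F.L) 5 (by rw [F.cardL]; norm_num)
    exact F.outer g hgt hgE x x.2 (Or.inl (by rw [Subgroup.orderOf_coe]; exact hx)) (hL _ x.2)

/-- An element `k` with no fixed point on `E` moves onto every element of its coset. -/
theorem exists_coset_conj {k : G} (hkE : ∀ e ∈ F.E, k⁻¹ * e * k ∈ F.E)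
    (hfix : ∀ e ∈ F.E, k * e = e * k → e = 1) {e0 : G} (h0 : e0 ∈ F.E) :
    ∃ e ∈ F.E, k⁻¹ * e * k * e = e0 := by
  let f : F.E → F.E := fun e => ⟨k⁻¹ * e * k * e, mul_mem (hkE e e.2) e.2⟩
  have hf : Function.Injective f := by
    rintro ⟨a, ha⟩ ⟨b, hb⟩ h
    have h' : k⁻¹ * a * k * a = k⁻¹ * b * k * b := congrArg Subtype.val h
    refine Subtype.ext ?_
    have hab : k⁻¹ * (a * b) * k = a * b := by
      calc k⁻¹ * (a * b) * k = k⁻¹ * a * k * (a * a) * (k⁻¹ * b * k) := by rw [F.sqE a ha]; group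
        _ = k⁻¹ * a * k * a * (a * (k⁻¹ * b * k)) := by group
        _ = k⁻¹ * b * k * b * ((k⁻¹ * b * k) * a) := by rw [h', F.E_comm ha (hkE b hb)]
        _ = (k⁻¹ * b * k * b) * (k⁻¹ * b * k) * a := by group
        _ = b * (k⁻¹ * (b * b) * k) * a := by
          rw [F.E_comm (hkE b hb) hb]; group
        _ = b * a := by rw [F.sqE b hb]; group
        _ = a * b := F.E_comm hb ha
    have h1 := hfix _ (mul_mem ha hb) (by
      conv_lhs => rw [← hab]
      group)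
    show a = b
    exact (F.E_inv ha).symm.trans (inv_eq_of_mul_eq_one_right h1)
  obtain ⟨⟨e, he⟩, h⟩ := (Finite.injective_iff_surjective.1 hf) ⟨e0, h0⟩
  exact ⟨e, he, congrArg Subtype.val h⟩

/-- An involution of `C(t)` outside `C(E)` inverting `y`. -/
theorem exists_sigma : ∃ s : G, s * s = 1 ∧ s * F.y * s⁻¹ = F.y⁻¹ ∧ s * F.t = F.t * s ∧
    s ∉ centralizer (F.E : Set G) := by
  obtain ⟨h1, h2, h3⟩ := F.t1_facts
  obtain ⟨x, hxdef⟩ : ∃ x, x = F.σ * F.y * F.σ⁻¹ := ⟨_, rfl⟩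
  have hxL : ∀ l ∈ F.L, x * l = l * x := fun l hl => by
    have hm := F.normL F.σ⁻¹ (by rw [F.σ_inv]; exact F.σ_mem) l hl
    rw [inv_inv] at hm
    rw [hxdef]
    calc F.σ * F.y * F.σ⁻¹ * l = F.σ * (F.y * (F.σ⁻¹ * l * F.σ)) * F.σ⁻¹ := by group
      _ = F.σ * ((F.σ⁻¹ * l * F.σ) * F.y) * F.σ⁻¹ := by rw [F.y_comm _ hm]
      _ = l * (F.σ * F.y * F.σ⁻¹) := by group
  have hxt : x * F.t * x⁻¹ = F.σ * (F.y * F.t * F.y⁻¹) * F.σ⁻¹ := by
    rw [hxdef]
    have : F.σ⁻¹ * F.t * F.σ = F.t := by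
      rw [mul_assoc, ← F.σ_mem, ← mul_assoc, inv_mul_cancel, one_mul]
    calc _ = F.σ * (F.y * (F.σ⁻¹ * F.t * F.σ) * F.y⁻¹) * F.σ⁻¹ := by group
      _ = _ := by rw [this]
  rw [F.σ_move _ h1 h2 h3, F.E_comm h1 F.t_mem, ← F.t2_eq] at hxt
  -- so `x` is `y²` times an element of `E`
  have he0 : (F.y * F.y)⁻¹ * x ∈ F.E := F.cent_Lt (by
    calc (F.y * F.y)⁻¹ * x * F.t = (F.y * F.y)⁻¹ * (x * F.t * x⁻¹) * x := by group
      _ = F.t * ((F.y * F.y)⁻¹ * x) := by rw [hxt]; group) (fun l hl => by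
      have hy : Commute (F.y * F.y) l := (show Commute F.y l from F.y_comm l hl).mul_left (F.y_comm l hl)
      have := hy.inv_left.eq
      rw [mul_assoc, hxL l hl, ← mul_assoc, this, mul_assoc])
  rw [← F.y_inv, inv_inv] at he0
  obtain ⟨e, he, hee⟩ := F.exists_coset_conj (k := F.y⁻¹) (fun f hf => by
      rw [inv_inv]; exact F.y_norm f hf) (fun f hf h => F.y_fix hf (by
      have := (show Commute F.y⁻¹ f from h).inv_left.eq
      rwa [inv_inv] at this)) he0
  rw [inv_inv] at hee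
  obtain ⟨s, hsdef⟩ : ∃ s, s = e * F.σ := ⟨_, rfl⟩
  have het : e * F.t = F.t * e := F.E_comm he F.t_mem
  have hst : s * F.t = F.t * s := by
    rw [hsdef, mul_assoc, F.σ_mem, ← mul_assoc, het, mul_assoc]
  have hsy : s * F.y * s⁻¹ = F.y⁻¹ := by
    rw [hsdef, mul_inv_rev, show e * F.σ * F.y * (F.σ⁻¹ * e⁻¹) = e * x * e⁻¹ by rw [hxdef]; group]
    have hx' : x = F.y⁻¹ * (F.y * e * F.y⁻¹ * e) := by rw [hee]; group
    rw [hx', F.E_inv he]
    calc e * (F.y⁻¹ * (F.y * e * F.y⁻¹ * e)) * e = (e * e) * F.y⁻¹ * (e * e) := by group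
      _ = F.y⁻¹ := by rw [F.sqE e he]; group
  refine ⟨s, ?_, hsy, hst, fun h => F.σ_out ?_⟩
  · have hs2 : s * s ∈ F.E := by
      rw [hsdef, show e * F.σ * (e * F.σ) = e * (F.σ * e * F.σ⁻¹) * (F.σ * F.σ) by group, F.σ_sq, mul_one]
      exact mul_mem he (F.σ_norm he)
    refine F.y_fix hs2 ?_
    have : s * s * F.y * (s * s)⁻¹ = F.y := by
      calc _ = s * (s * F.y * s⁻¹) * s⁻¹ := by group
        _ = s * F.y⁻¹ * s⁻¹ := by rw [hsy]
        _ = (s * F.y * s⁻¹)⁻¹ := by group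
        _ = F.y := by rw [hsy, inv_inv]
    conv_lhs => rw [← this]
    group
  · have := mul_mem (inv_mem (F.E_centE he)) h
    rwa [hsdef, inv_mul_cancel_left] at this

end UFrame

end CfsgLib.InvChar.SuzUniq
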